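import Cfsg.Agent.StdMTwelve.OuterCert
import Cfsg.Agent.S2061

/-!
The automorphism group of M12 as the stabiliser of a pair of complementary dodecads, and its outer involutions.
-/

set_option autoImplicit false
set_option linter.style.haveILetI false
set_option maxRecDepth 4000

namespace Cfsg.Lib.StdMTwelve

open Cfsg Cfsg.Lib.PermCert Cfsg.Lib.Golay MulAction
open scoped Pointwise

/-- The stabiliser of the standard pair of dodecads. -/
def autM12 : Subgroup (Equiv.Perm GolayPt) := cgDodPair.grp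

/-- The standard outer involution. -/
def outInv : Equiv.Perm GolayPt := toP outX

theorem card_of_relIndex {G : Type*} [Group G] {H K : Subgroup G} (h : H ≤ K) :
    H.relIndex K * Nat.card H = Nat.card K := by
  rw [← Nat.card_congr (Subgroup.subgroupOfEquivOfLe h).toEquiv]
  exact Subgroup.index_mul_card _

theorem M12_eq_grp : Spor.M12 = cgAutM12.grp := M12_eq

theorem M12_le : Spor.M12 ≤ autM12 := by
  rw [M12_eq_grp]
  exact grp_le_of_gensIn cgDodPair_ok cgAutM12_ok.1 m12_in_pair

theorem card_autM12 : Nat.card autM12 = 190080 := (CG.card_grp cgDodPair_ok).trans pair_size.1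

theorem outInv_mem : outInv ∈ autM12 := mem_of_sift cgDodPair_ok outX_facts.1 outX_facts.2.1

theorem rep_outInv : Rep outInv [outX] := rep_toP outX_facts.1

theorem outInv_sq : outInv * outInv = 1 := ((rep_outInv.mul rep_outInv).eq_iff rep_one).mpr outX_facts.2.2.1

theorem outInv_inv : outInv⁻¹ = outInv := inv_eq_of_mul_eq_one_right outInv_sq

theorem outInv_notMem : outInv ∉ Spor.M12 := fun h => outX_facts.2.2.2.2 (by
  have h2 : outInv • Spor.squareDodecad = Spor.squareDodecad := mem_stabilizer_iff.mp h.2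
  have h3 := mk_smul outX_facts.1 Spor.squareDodecad
  rw [show toP outX = outInv from rfl, h2, squareDodecad_eq, mk_pts (by norm_num)] at h3
  exact h3.symm)

theorem relIndex_M12 : Spor.M12.relIndex autM12 = 2 := by
  have h := card_of_relIndex M12_le
  rw [card_autM12, card_M12] at h
  exact Nat.eq_of_mul_eq_mul_right (show 0 < 95040 by norm_num) (h.trans (by norm_num : (190080 : ℕ) = 2 * 95040))

theorem normal_M12 : (Spor.M12.subgroupOf autM12).Normal :=
  Subgroup.normal_of_index_eq_two relIndex_M12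

theorem conj_mem_M12 {a m : Equiv.Perm GolayPt} (ha : a ∈ autM12) (hm : m ∈ Spor.M12) :
    a * m * a⁻¹ ∈ Spor.M12 := by
  have h := normal_M12.conj_mem ⟨m, M12_le hm⟩ (by rwa [Subgroup.mem_subgroupOf]) ⟨a, ha⟩
  rwa [Subgroup.mem_subgroupOf] at h

theorem mul_mem_M12 {a b : Equiv.Perm GolayPt} (ha : a ∈ autM12) (hb : b ∈ autM12) (ha' : a ∉ Spor.M12)
    (hb' : b ∉ Spor.M12) : a * b ∈ Spor.M12 := by
  have h := (Subgroup.mul_mem_iff_of_index_two (H := Spor.M12.subgroupOf autM12) relIndex_M12
    (a := ⟨a, ha⟩) (b := ⟨b, hb⟩)).mpr (by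
      simp only [Subgroup.mem_subgroupOf]
      exact ⟨fun h => absurd h ha', fun h => absurd h hb'⟩)
  rwa [Subgroup.mem_subgroupOf] at h

theorem outInv_norm {s : Equiv.Perm GolayPt} (hs : s ∈ cgAutSylM12.grp) :
    outInv * s * outInv ∈ cgAutSylM12.grp := by
  have hle : cgAutSylM12.grp.map (MulAut.conj outInv).toMonoidHom ≤ cgAutSylM12.grp := by
    conv_lhs => rw [← (CG.ok_spec cgAutM12_ok.2).2.2, MonoidHom.map_closure]
    rw [Subgroup.closure_le]
    rintro _ ⟨_, ⟨g, hg, rfl⟩, rfl⟩
    have hgv := valid_of_fvalid ((CG.ok_spec cgAutM12_ok.2).2.1 g hg)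
    have hv : ∀ x ∈ [outX, g.1, outX], valid 24 x = true := by
      simp only [List.mem_cons, List.not_mem_nil, or_false]
      rintro x (rfl | rfl | rfl) <;> first | exact outX_facts.1 | exact hgv
    have hm := mem_grp_of_sift (CG.ok_spec cgAutM12_ok.2).1 hv (List.all_eq_true.mp outX_normalises g hg)
    refine ⟨_, hm, ?_⟩
    show permHom (wperm 24 [outX, g.1, outX]) = outInv * toP g.1 * outInv⁻¹
    rw [outInv_inv]
    simp [wperm, outInv, toP, mul_assoc]
  have h := hle (Subgroup.mem_map_of_mem (MulAut.conj outInv).toMonoidHom hs)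
  rwa [MulEquiv.coe_toMonoidHom, MulAut.conj_apply, outInv_inv] at h

/-- A Sylow 2-subgroup of the pair stabiliser. -/
def autSyl : Subgroup (Equiv.Perm GolayPt) where
  carrier := {y | y ∈ cgAutSylM12.grp ∨ outInv * y ∈ cgAutSylM12.grp}
  one_mem' := Or.inl (one_mem _)
  mul_mem' := by
    rintro a b (ha | ha) (hb | hb)
    · exact Or.inl (mul_mem ha hb)
    · refine Or.inr ?_
      rw [show outInv * (a * b) = (outInv * a * outInv) * (outInv * b) by
        simp only [mul_assoc]
        rw [← mul_assoc outInv outInv b, outInv_sq, one_mul]]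
      exact mul_mem (outInv_norm ha) hb
    · exact Or.inr (by rw [← mul_assoc]; exact mul_mem ha hb)
    · refine Or.inl ?_
      rw [show a * b = (outInv * (outInv * a) * outInv) * (outInv * b) by
        simp only [mul_assoc]
        rw [← mul_assoc outInv outInv b, outInv_sq, one_mul, ← mul_assoc outInv outInv, outInv_sq, one_mul]]
      exact mul_mem (outInv_norm ha) hb
  inv_mem' := by
    rintro a (ha | ha)
    · exact Or.inl (inv_mem ha)
    · refine Or.inr ?_
      rw [show outInv * a⁻¹ = outInv * (outInv * a)⁻¹ * outInv by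
        rw [mul_inv_rev, outInv_inv]; simp only [mul_assoc, outInv_sq, mul_one]]
      exact outInv_norm (inv_mem ha)

theorem syl_le_M12 : cgAutSylM12.grp ≤ Spor.M12 := by
  rw [M12_eq_grp]
  exact grp_le_of_gensIn cgAutM12_ok.1 cgAutM12_ok.2 syl_in_m12.1

theorem autSyl_le : autSyl ≤ autM12 := by
  rintro y (hy | hy)
  · exact M12_le (syl_le_M12 hy)
  · have h := mul_mem outInv_mem (M12_le (syl_le_M12 hy))
    rwa [← mul_assoc, outInv_sq, one_mul] at h

theorem card_autSyl : Nat.card autSyl = 128 := by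
  have hle : cgAutSylM12.grp ≤ autSyl := fun y hy => Or.inl hy
  have hidx : cgAutSylM12.grp.relIndex autSyl = 2 := by
    rw [Subgroup.relIndex, Subgroup.index_eq_two_iff]
    refine ⟨⟨outInv, Or.inr (by rw [outInv_sq]; exact one_mem _)⟩, fun b => ?_⟩
    simp only [Subgroup.mem_subgroupOf, Subgroup.coe_mul]
    rcases b.2 with hb | hb
    · refine Or.inr ⟨hb, fun h => outInv_notMem (syl_le_M12 ?_)⟩
      have := mul_mem (inv_mem hb) h
      rwa [inv_mul_cancel_left] at this
    · refine Or.inl ⟨?_, fun h => outInv_notMem (syl_le_M12 ?_)⟩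
      · have := outInv_norm hb
        rwa [← mul_assoc, outInv_sq, one_mul] at this
      · have := mul_mem hb (inv_mem h)
        rwa [mul_inv_cancel_right] at this
  have h := card_of_relIndex hle
  rw [hidx, CG.card_grp cgAutM12_ok.2, syl_in_m12.2] at h
  omega

theorem outTree_orbit :
    (∀ y, y ∈ orbit autM12 (CJ.mk outInv) ↔ cjEnc y ∈ stVals outTree) ∧
      (orbit autM12 (CJ.mk outInv)).ncard = 792 := by
  have hK : Subgroup.closure {p | ∃ g ∈ cgDodPair.gens.map (·.1), toP g = p} = autM12 := by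
    refine Eq.trans ?_ (CG.ok_spec cgDodPair_ok).2.2
    congr 1
    ext p
    constructor
    · rintro ⟨g, hg, rfl⟩
      obtain ⟨f, hf, rfl⟩ := List.mem_map.mp hg
      exact ⟨f, hf, rfl⟩
    · rintro ⟨f, hf, rfl⟩
      exact ⟨f.1, List.mem_map.mpr ⟨f, hf, rfl⟩, rfl⟩
  have hspec : ∀ s ∈ cgDodPair.gens.map (·.1), ∀ x : CJ, cjEnc (toP s • x) = cjActP s (cjEnc x) := by
    intro s hs x
    obtain ⟨g, hg, rfl⟩ := List.mem_map.mp hs
    exact cjEnc_smulP (valid_of_fvalid ((CG.ok_spec cgDodPair_ok).2.1 g hg)) x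
  have hroot : cjEnc (CJ.mk outInv) = pack ((List.range 24).map (evalWord [outX])) := Rep.cjEnc_eq rep_outInv
  have hclosed := closedOK_spec outTree_closed
  have key := closedOK_sound (t := outTree) cjEnc_injective toP autM12 hK hspec hroot hclosed
  exact ⟨key.1, key.2.trans outTree_size⟩

/-- The outer involutions form one class. -/
theorem outer_conj {y : Equiv.Perm GolayPt} (hy : y ∈ autM12) (hn : y ∉ Spor.M12) (h2 : y * y = 1) :
    ∃ g ∈ autM12, g * outInv * g⁻¹ = y := by
  haveI : Fact (Nat.Prime 2) := ⟨Nat.prime_two⟩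
  haveI : Finite autM12 := inferInstance
  let S : Sylow 2 autM12 := Sylow.ofCard (autSyl.subgroupOf autM12) (by
    rw [Nat.card_congr (Subgroup.subgroupOfEquivOfLe autSyl_le).toEquiv, card_autSyl, card_autM12]
    rw [show (190080 : ℕ) = 2 ^ 7 * 1485 by norm_num, Nat.factorization_mul (by norm_num) (by norm_num),
      Nat.Prime.factorization_pow Nat.prime_two]
    simp [Nat.factorization_eq_zero_of_not_dvd (show ¬ 2 ∣ 1485 by norm_num)])
  have hy1 : y ≠ 1 := fun e => hn (e ▸ one_mem _)
  have hoy : orderOf (⟨y, hy⟩ : autM12) = 2 := orderOf_eq_prime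
    (Subtype.ext (by rw [SubmonoidClass.coe_pow, sq]; exact h2)) fun e => hy1 (congrArg Subtype.val e)
  obtain ⟨Q, hQ⟩ :=
    (IsPGroup.of_card (p := 2) (n := 1) ((Nat.card_zpowers _).trans (hoy.trans (pow_one 2).symm))).exists_le_sylow
  obtain ⟨g, hg⟩ := MulAction.exists_smul_eq autM12 S Q
  obtain ⟨u, hu, hgu⟩ : (⟨y, hy⟩ : autM12) ∈ (g • S : Sylow 2 autM12) := hg ▸ hQ (Subgroup.mem_zpowers _)
  have hgu : (g : Equiv.Perm GolayPt) * u * (g : Equiv.Perm GolayPt)⁻¹ = y := congrArg Subtype.val hgu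
  have hun : (u : Equiv.Perm GolayPt) ∉ Spor.M12 := fun h => hn (hgu ▸ conj_mem_M12 g.2 h)
  have huS : (u : Equiv.Perm GolayPt) ∈ autSyl := Subgroup.mem_subgroupOf.mp hu
  rcases huS with hu' | hu'
  · exact absurd (syl_le_M12 hu') hun
  obtain ⟨w, hw, hr⟩ := rep_of_mem cgAutM12_ok.2 hu'
  have hru : Rep (u : Equiv.Perm GolayPt) (outX :: w) := by
    have h := rep_outInv.mul hr
    rwa [← mul_assoc, outInv_sq, one_mul] at h
  have huu : (u : Equiv.Perm GolayPt) * u = 1 := by
    rw [← hgu, show (g : Equiv.Perm GolayPt) * u * (g : Equiv.Perm GolayPt)⁻¹ * ((g : Equiv.Perm GolayPt) * u *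
      (g : Equiv.Perm GolayPt)⁻¹) = (g : Equiv.Perm GolayPt) * (u * u) * (g : Equiv.Perm GolayPt)⁻¹ by group,
      conj_eq_one_iff] at h2
    exact h2
  have hcov := List.all_eq_true.mp outCover w hw
  simp only [Bool.or_eq_true, Bool.not_eq_true'] at hcov
  rcases hcov with hc | hc
  · exact absurd (((hru.mul hru).eq_iff rep_one).mp huu) (by rw [hc]; exact Bool.false_ne_true)
  obtain ⟨d, hd⟩ := Option.isSome_iff_exists.mp hc
  obtain ⟨e, he, he1, -⟩ := stFind_mem hd
  have hmem : CJ.mk (u : Equiv.Perm GolayPt) ∈ orbit autM12 (CJ.mk outInv) :=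
    (outTree_orbit.1 _).mpr (List.mem_map.mpr ⟨e, he, he1.trans (Rep.cjEnc_eq hru).symm⟩)
  obtain ⟨k, hk⟩ := hmem
  have hk' : (k : Equiv.Perm GolayPt) * outInv * (k : Equiv.Perm GolayPt)⁻¹ = u := congrArg CJ.perm hk
  refine ⟨g * k, mul_mem g.2 k.2, ?_⟩
  rw [← hgu, ← hk']
  group

/-- The centraliser of the standard outer involution in M12 has order 120. -/
theorem card_cent_outInv :
    Nat.card ↥(Spor.M12 ⊓ Subgroup.centralizer ({outInv} : Set (Equiv.Perm GolayPt))) = 120 := by
  set C := autM12 ⊓ Subgroup.centralizer ({outInv} : Set (Equiv.Perm GolayPt))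
  have hC : Nat.card C = 240 := by
    have h := Subgroup.index_mul_card (stabilizer autM12 (CJ.mk outInv))
    rw [index_stabilizer, outTree_orbit.2, card_autM12] at h
    have e : (stabilizer autM12 (CJ.mk outInv)).map autM12.subtype = C := by
      ext a
      simp only [Subgroup.mem_map, mem_stabilizer_iff, C, Subgroup.mem_inf,
        Subgroup.mem_centralizer_singleton_iff, Subgroup.subtype_apply]
      constructor
      · rintro ⟨a, ha, rfl⟩
        exact ⟨a.2, mul_inv_eq_iff_eq_mul.mp (congrArg CJ.perm ha)⟩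
      · rintro ⟨ha, hc⟩
        exact ⟨⟨a, ha⟩, congrArg CJ.mk (mul_inv_eq_iff_eq_mul.mpr hc), rfl⟩
    rw [← e, Nat.card_congr (Subgroup.equivMapOfInjective _ _ (Subgroup.subtype_injective _)).toEquiv.symm]
    omega
  have hle : Spor.M12 ⊓ Subgroup.centralizer ({outInv} : Set (Equiv.Perm GolayPt)) ≤ C :=
    inf_le_inf_right _ M12_le
  have hidx : (Spor.M12 ⊓ Subgroup.centralizer ({outInv} : Set (Equiv.Perm GolayPt))).relIndex C = 2 := by
    have hox : outInv ∈ C := ⟨outInv_mem, Subgroup.mem_centralizer_singleton_iff.mpr rfl⟩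
    rw [Subgroup.relIndex, Subgroup.index_eq_two_iff]
    refine ⟨⟨outInv, hox⟩, fun b => ?_⟩
    simp only [Subgroup.mem_subgroupOf, Subgroup.coe_mul, Subgroup.mem_inf]
    by_cases hb : (b : Equiv.Perm GolayPt) ∈ Spor.M12
    · refine Or.inr ⟨⟨hb, b.2.2⟩, fun h => outInv_notMem ?_⟩
      have := mul_mem (inv_mem hb) h.1
      rwa [inv_mul_cancel_left] at this
    · exact Or.inl ⟨⟨mul_mem_M12 b.2.1 outInv_mem hb outInv_notMem, mul_mem b.2.2 hox.2⟩, fun h => hb h.1⟩
  have h := card_of_relIndex hle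
  rw [hidx, hC] at h
  omega

/-- The action of the pair stabiliser on M12. -/
def autHom : autM12 →* MulAut Spor.M12 where
  toFun a :=
    { toFun := fun m => ⟨a * m * (a : Equiv.Perm GolayPt)⁻¹, conj_mem_M12 a.2 m.2⟩
      invFun := fun m => ⟨(a : Equiv.Perm GolayPt)⁻¹ * m * a, by
        simpa using conj_mem_M12 (inv_mem a.2) m.2⟩
      left_inv := fun m => Subtype.ext (by simp [mul_assoc])
      right_inv := fun m => Subtype.ext (by simp [mul_assoc])
      map_mul' := fun m n => Subtype.ext (by simp [mul_assoc]) }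
  map_one' := by ext m : 2; simp
  map_mul' a b := MulEquiv.ext fun m => Subtype.ext (by simp [mul_assoc, MulAut.mul_apply])

theorem autHom_apply (a : autM12) (m : Spor.M12) :
    (autHom a m : Equiv.Perm GolayPt) = a * m * (a : Equiv.Perm GolayPt)⁻¹ := rfl

theorem center_M12_eq_bot : Subgroup.center Spor.M12 = ⊥ := by
  haveI := isSimple_M12
  rcases (inferInstance : (Subgroup.center Spor.M12).Normal).eq_bot_or_eq_top with h | h
  · exact h
  · exfalso
    haveI : IsMulCommutative Spor.M12 := ⟨⟨fun a b => (Subgroup.mem_center_iff.mp (h ▸ Subgroup.mem_top b) a)⟩⟩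
    have hp : (Nat.card Spor.M12).Prime := by
      letI : CommGroup Spor.M12 := { (inferInstance : Group Spor.M12) with mul_comm := mul_comm' }
      exact IsSimpleGroup.prime_card
    rw [card_M12] at hp
    norm_num at hp

theorem autHom_injective : Function.Injective autHom := by
  rw [injective_iff_map_eq_one]
  intro a ha
  have hc : ∀ m ∈ Spor.M12, (a : Equiv.Perm GolayPt) * m = m * a := fun m hm => by
    have h := congrArg Subtype.val (DFunLike.congr_fun ha ⟨m, hm⟩)
    rw [autHom_apply] at h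
    exact mul_inv_eq_iff_eq_mul.mp h
  have hz : ∀ c ∈ Spor.M12, (∀ m ∈ Spor.M12, c * m = m * c) → c = 1 := fun c hc1 hc2 => by
    have : (⟨c, hc1⟩ : Spor.M12) ∈ Subgroup.center Spor.M12 :=
      Subgroup.mem_center_iff.mpr fun m => Subtype.ext (hc2 m m.2).symm
    rw [center_M12_eq_bot, Subgroup.mem_bot] at this
    exact congrArg Subtype.val this
  by_cases hm : (a : Equiv.Perm GolayPt) ∈ Spor.M12
  · exact Subtype.ext (hz _ hm hc)
  exfalso
  have hsq : (a : Equiv.Perm GolayPt) * a = 1 := hz _ (mul_mem_M12 a.2 a.2 hm hm) fun m hmm => by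
    rw [mul_assoc, hc m hmm, ← mul_assoc, hc m hmm, mul_assoc]
  obtain ⟨g, hg, hga⟩ := outer_conj a.2 hm hsq
  have hall : Spor.M12 ⊓ Subgroup.centralizer ({outInv} : Set (Equiv.Perm GolayPt)) = Spor.M12 := by
    refine inf_eq_left.mpr fun m hm' => Subgroup.mem_centralizer_singleton_iff.mpr ?_
    have h := hc _ (conj_mem_M12 hg hm')
    rw [← hga] at h
    calc m * outInv = g⁻¹ * ((g * m * g⁻¹) * (g * outInv * g⁻¹)) * g := by group
      _ = g⁻¹ * ((g * outInv * g⁻¹) * (g * m * g⁻¹)) * g := by rw [h]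
      _ = outInv * m := by group
  have h := card_cent_outInv
  rw [hall, card_M12] at h
  omega

theorem autHom_bijective : Function.Bijective autHom := by
  refine (Nat.bijective_iff_injective_and_card _).mpr ⟨autHom_injective, ?_⟩
  rw [card_autM12]
  have h := Subgroup.card_eq_card_quotient_mul_card_subgroup (Cfsg.Inn Spor.M12)
  rw [Cfsg.Agent.S2061.result] at h
  have hinn : Nat.card (Cfsg.Inn Spor.M12) = 95040 := by
    rw [← card_M12]
    refine (Nat.card_congr (MonoidHom.ofInjective (f := (MulAut.conj : Spor.M12 →* MulAut Spor.M12)) ?_).toEquiv).symm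
    rw [injective_iff_map_eq_one]
    intro m hm
    have : m ∈ Subgroup.center Spor.M12 := Subgroup.mem_center_iff.mpr fun x => by
      have h := DFunLike.congr_fun hm x
      rw [MulAut.conj_apply, MulAut.one_apply] at h
      exact (mul_inv_eq_iff_eq_mul.mp h).symm
    rwa [center_M12_eq_bot, Subgroup.mem_bot] at this
  rw [hinn] at h
  omega

/-- `Aut M12` is the stabiliser of a pair of complementary dodecads. -/
noncomputable def autEquiv : autM12 ≃* MulAut Spor.M12 := MulEquiv.ofBijective autHom autHom_bijective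

end Cfsg.Lib.StdMTwelve
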