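import Cfsg.Agent.StdMTwelve.CoreSixData
import Cfsg.Agent.LocalThree.SpCentre.SixCode

/-!
The finite checks in the symplectic group of degree six over two elements for the centraliser of the second class
of involutions: four steps, each excluding that an involution of the class with a determined fixed point fuses.
-/

set_option autoImplicit false
set_option maxRecDepth 100000
set_option maxHeartbeats 4000000
set_option Elab.async false

namespace Cfsg.Lib.StdMTwelve.Six

open Cfsg.Lib.SpCentre.Code (ap mul one bform cm cl prodC repSet conjC)

/-- the number of fixed vectors -/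
def nfix (g : ℕ) : ℕ := ((List.range 64).filter fun v => ap g v == v).length

/-- whether the form of a vector and its image vanishes -/
def alt64 (g : ℕ) : Bool := (List.range 64).all fun v => !bform v (ap g v)

/-- the class of an involution -/
def kindC (g : ℕ) : ℕ :=
  let n := nfix g
  bif n == 64 then 0 else bif n == 32 then 1 else bif n == 16 then (bif alt64 g then 3 else 2)
    else bif n == 8 then 4 else 5

theorem kind_reps : ∀ j : Fin 5, kindC (prodC (repSet j.val)) = j.val := by decide +kernel

/-- a step of the argument -/
structure Lev where
  /-- the subgroup, by generators -/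
  els : List ℕ
  /-- the nontrivial elements of the subgroup -/
  grp : List ℕ
  /-- the first element of the class of the image -/
  x : ℕ
  /-- the second element -/
  y : ℕ
  /-- the side used in the first case -/
  sy : Bool
  /-- the elements to run through -/
  dom : List ℕ
  /-- the earlier steps usable -/
  mode : ℕ

/-- centres of transvections whose products give the elements of the class used -/
def wordTab : List (List ℕ) :=
  [[3, 6, 7], [11, 13, 15], [10, 12, 14], [3, 5, 7], [1, 5, 7], [8, 12, 14], [9, 13, 15], [5, 6, 7], [1, 3, 4],
    [6, 12, 14], [6, 13, 15], [4, 8, 10], [4, 9, 11], [1, 2, 6], [1, 3, 7], [6, 10, 14], [6, 11, 15], [8, 10, 14],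
    [9, 11, 15]]

/-- the classes of the translates of an element -/
def sigC (L : Lev) (g : ℕ) : List ℕ := L.els.map fun u => cl (mul g u)

/-- whether an element is covered by an earlier step -/
def extC (L : Lev) (e : ℕ) : Bool :=
  let k := cl e
  let m := cl (mul e (L.els.headD 0))
  (L.mode == 1 && ((k == 3 && m == 2) || (k == 2 && m == 3))) || (L.mode == 2 && (k == 2 || m == 2))

/-- whether an element is not yet settled -/
def badC (L : Lev) (e : ℕ) : Bool := !(one :: L.grp).any (fun u => cl (mul e u) == 4) && !extC L e

/-- the elements found on the sides -/
def sideC (L : Lev) (z t e : ℕ) : Bool := cm e z && cl (mul z e) == 4 && sigC L (mul z e) == sigC L t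

/-- the test of an element outside the subgroup -/
def testC (L : Lev) (e : ℕ) : Bool :=
  L.grp.elem e || e == one || !(L.els.all fun u => cm e u) || !(cm e L.x || cm e L.y) || !badC L e ||
    ((bif L.sy then !sideC L L.y L.y e else !sideC L L.x L.x e) && !sideC L L.y L.x e)

/-- the whole check -/
def checkC (L : Lev) : Bool :=
  (L.els.all fun u => mul u u == one && cm L.x u && cm L.y u && L.els.all fun v => cm u v) &&
  ((wordTab.map prodC).elem L.x && (wordTab.map prodC).elem L.y) &&
  (mul L.x L.x == one && mul L.y L.y == one && cl L.x == 4 && cl L.y == 4 && sigC L L.x != sigC L L.y) &&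
  (L.grp.all fun u =>
    !(cl (mul L.y u) == 4 && cl (mul L.x u) == 4 &&
      ((sigC L (mul L.y u) == sigC L L.y && sigC L (mul L.x u) == sigC L L.x) ||
        (sigC L (mul L.y u) == sigC L L.x && sigC L (mul L.x u) == sigC L L.y)))) &&
  L.dom.all fun e => testC L e

/-- the alternating representative -/
def cA : ℕ := 36844880001
/-- the representative with two transvections -/
def cC : ℕ := 38958809217
/-- the transvection -/
def cT : ℕ := 34630549633

theorem rep_codes : prodC (repSet 3) = cA ∧ prodC (repSet 2) = cC ∧ prodC (repSet 1) = cT := by decide +kernel

/-- the steps with two generators -/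
def levFour (p : ℕ × ℕ × ℕ) : Lev :=
  ⟨[cA, p.1], [cA, p.1, mul cA p.1], p.2.1, p.2.2, false, invA2, 0⟩
/-- the step of the product of two transvections -/
def levC : Lev := ⟨[cC], [cC], 38976110721, 41140109441, true, invC2, 1⟩
/-- the step of the alternating representative -/
def levA : Lev := ⟨[cA], [cA], 36845142145, 38942556289, false, invA2, 2⟩
/-- the step of the transvection -/
def levT : Lev := ⟨[cT], [cT], 36845142145, 38942556289, true, invB1, 2⟩

/-- the lists are complete, and so is the list of partners -/
def coverC (i : ℕ) : Bool :=
  (List.range 64).all fun n =>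
    let e := conjC i n
    e == one || ((!cm e cA || (invA2.elem e && (!(cl e == 2 && cl (mul e cA) == 2) || (fourTab.map fun p => p.1).elem e))) &&
      (!cm e cC || invC2.elem e) && (!cm e cT || invB1.elem e))

theorem check_C : checkC levC = true := by decide +kernel

theorem check_A : checkC levA = true := by decide +kernel

theorem check_T : checkC levT = true := by decide +kernel


theorem word_lt : ∀ l ∈ wordTab, ∀ c ∈ l, c < 64 := by decide +kernel

end Cfsg.Lib.StdMTwelve.Six
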