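import Cfsg.Agent.StdMTwelve.CoreSixCode
import Mathlib.Tactic.IntervalCases

/-!
The checks for the steps with two generators and for the completeness of the lists.
-/

set_option autoImplicit false
set_option maxRecDepth 100000
set_option maxHeartbeats 4000000
set_option Elab.async false

namespace Cfsg.Lib.StdMTwelve.Six

theorem check_four0 : ((fourTab.take 9).all fun p => checkC (levFour p)) = true := by decide +kernel

theorem check_four1 : ((fourTab.drop 9).all fun p => checkC (levFour p)) = true := by decide +kernel

theorem check_four : (fourTab.all fun p => checkC (levFour p)) = true := by
  rw [← List.take_append_drop 9 fourTab, List.all_append, check_four0, check_four1, Bool.and_self]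

/-- a part of the completeness check -/
def coverPart (k : ℕ) : Bool := (List.range 27).all fun j => coverC (27 * k + j)

theorem cover0 : coverPart 0 = true := by decide +kernel
theorem cover1 : coverPart 1 = true := by decide +kernel
theorem cover2 : coverPart 2 = true := by decide +kernel
theorem cover3 : coverPart 3 = true := by decide +kernel
theorem cover4 : coverPart 4 = true := by decide +kernel

theorem cover_ok {i : ℕ} (hi : i < 135) : coverC i = true := by
  have h : coverPart (i / 27) = true := by
    have : i / 27 < 5 := by omega
    interval_cases (i / 27)
    exacts [cover0, cover1, cover2, cover3, cover4]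
  have h' := List.all_eq_true.1 h (i % 27) (List.mem_range.2 (Nat.mod_lt _ (by norm_num)))
  rwa [Nat.div_add_mod] at h'

end Cfsg.Lib.StdMTwelve.Six
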