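import Cfsg.Agent.StdMTwelve.CoreSixModel
import Cfsg.Agent.StdMTwelve.CoreSixFour
import Cfsg.Agent.LocalThree.SpCentre.SixEnd

/-!
A subgroup mapping onto the symplectic group of degree six over two elements, in which the elements of the class of
the smallest centraliser have their fusion controlled, is the whole group.
-/

set_option autoImplicit false
set_option linter.unusedSectionVars false
set_option linter.style.haveILetI false
set_option maxRecDepth 8000
set_option maxHeartbeats 1000000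

namespace Cfsg.Lib.StdMTwelve.Six

open Subgroup Cfsg.Lib.SpSixTwo
open Cfsg.Lib.SpCentre.Code (cl cm mul one prodC prodS repSet rep rep_mul rep_one rep_inj rep_prod rep_lt conjC)

attribute [local irreducible] Cfsg.Lib.SpCentre.Code.rep Cfsg.Lib.SpCentre.Code.cl Cfsg.Lib.SpCentre.Code.mul
  Cfsg.Lib.SpCentre.Code.cm

universe u

/-- the hypotheses -/
structure Cfg (Q : Type u) [Group Q] where
  /-- the subgroup -/
  K : Subgroup Q
  /-- the map onto the symplectic group -/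
  π : ↥K →* Sp
  surj : Function.Surjective π
  odd : ∀ k, π k = 1 → Odd (orderOf k)
  cen : ∀ k s : ↥K, π k = 1 → s * s = 1 → k * s = s * k
  fix_four : ∀ s : ↥K, s * s = 1 → kindS (π s) = 4 → ∀ g : Q, g * (s : Q) * g⁻¹ ∈ K → g ∈ K

namespace Cfg

variable {Q : Type u} [Group Q] [Finite Q] (C : Cfg Q)

/-- the class of an element -/
noncomputable def kd (s : ↥C.K) : ℕ := kindS (C.π s)

/-- the code of an element -/
noncomputable def cd (s : ↥C.K) : ℕ := rep (C.π s)

theorem cd_mul (s t : ↥C.K) : C.cd (s * t) = mul (C.cd s) (C.cd t) := by rw [cd, map_mul, rep_mul]; rfl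

theorem cl_cd (s : ↥C.K) : cl (C.cd s) = C.kd s := rfl

theorem inj {s t : ↥C.K} (hs : s * s = 1) (ht : t * t = 1) (h : C.π s = C.π t) : s = t := by
  have hk : C.π (s * t) = 1 := by rw [map_mul, h, ← map_mul, ht, map_one]
  have hc : s * t * s = s * (s * t) := C.cen _ s hk hs
  have h2 : (s * t) ^ 2 = 1 := by
    rw [pow_two, ← mul_assoc, hc, ← mul_assoc s s t, hs, one_mul, ht]
  have h1 : s * t = 1 := orderOf_eq_one_iff.1
    (Nat.Coprime.eq_one_of_dvd (Nat.Coprime.symm (C.odd _ hk).coprime_two_left.symm |>.symm) (orderOf_dvd_of_pow_eq_one h2))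
  calc s = s * (t * t) := by rw [ht, mul_one]
    _ = t := by rw [← mul_assoc, h1, one_mul]

theorem conj_sq {s : ↥C.K} (hs : s * s = 1) (k : ↥C.K) : k * s * k⁻¹ * (k * s * k⁻¹) = 1 := by
  calc k * s * k⁻¹ * (k * s * k⁻¹) = k * (s * s) * k⁻¹ := by group
    _ = 1 := by rw [hs]; group

theorem kd_conj {s : ↥C.K} (hs : s * s = 1) (k : ↥C.K) : C.kd (k * s * k⁻¹) = C.kd s := by
  rw [kd, map_mul, map_mul, map_inv, kindS_conj (by rw [← map_mul, hs, map_one]), kd]

theorem comm_lift {s t : ↥C.K} (hs : s * s = 1) (ht : t * t = 1) (h : C.π s * C.π t = C.π t * C.π s) :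
    s * t = t * s :=
  mul_inv_eq_iff_eq_mul.1 (C.inj (C.conj_sq ht s) ht (by
    rw [map_mul, map_mul, map_inv, h, mul_inv_cancel_right]))

theorem exists_lift {v : Sp} (hv : v * v = 1) : ∃ s : ↥C.K, s * s = 1 ∧ C.π s = v := by
  obtain ⟨g, rfl⟩ := C.surj v
  have hk : C.π (g * g) = 1 := by rw [map_mul, hv]
  set m := orderOf (g * g)
  refine ⟨g ^ m, ?_, ?_⟩
  · rw [← pow_add, ← two_mul, pow_mul, pow_two, pow_orderOf_eq_one]
  · obtain ⟨l, hl⟩ := C.odd _ hk
    rw [map_pow, show m = 2 * l + 1 from hl, pow_succ, pow_mul, pow_two, hv, one_pow, one_mul]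

theorem kd_lt {s : ↥C.K} (hs : s * s = 1) : C.kd s < 5 ∧ (C.kd s = 0 → s = 1) := by
  obtain ⟨h5, h0, -⟩ := kind_cases (u := C.π s) (by rw [← map_mul, hs, map_one])
  exact ⟨h5, fun h => C.inj hs (one_mul 1) (by rw [h0 h, map_one])⟩

theorem code_comm {s t : ↥C.K} (hs : s * s = 1) (ht : t * t = 1) (h : cm (C.cd s) (C.cd t) = true) :
    s * t = t * s :=
  C.comm_lift hs ht (rep_inj (by simp only [cm, cd, beq_iff_eq] at h; rw [rep_mul, rep_mul]; exact h))

theorem cm_of_comm {s t : ↥C.K} (h : s * t = t * s) : cm (C.cd s) (C.cd t) = true := by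
  rw [cm, beq_iff_eq, ← C.cd_mul, ← C.cd_mul, h]

/-- an element given by its code in the table of words -/
theorem exists_word {c : ℕ} (hc : (wordTab.map prodC).elem c = true) (hcc : mul c c = one) :
    ∃ s : ↥C.K, s * s = 1 ∧ C.cd s = c := by
  rw [List.elem_eq_mem, decide_eq_true_eq, List.mem_map] at hc
  obtain ⟨l, hl, rfl⟩ := hc
  have hr := rep_prod (word_lt l hl)
  obtain ⟨s, hs, e⟩ := C.exists_lift (v := prodS l) (rep_inj (by rw [rep_mul, hr, hcc, rep_one]))
  exact ⟨s, hs, by rw [cd, e, hr]⟩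

/-- ONE STEP: the centraliser of the given elements lies in the subgroup. -/
theorem step (L : Lev) (hL : checkC L = true) (es : List ↥C.K) (hes : ∀ s ∈ es, s * s = 1)
    (hmap : es.map C.cd = L.els)
    (hgrp : ∀ v ∈ L.grp, ∃ s : ↥C.K, s * s = 1 ∧ C.cd s = v ∧
      ∀ g : Q, (∀ t ∈ es, g * (t : Q) = t * g) → g * (s : Q) = s * g)
    (hdom : ∀ v : Sp, v * v = 1 → v ≠ 1 → (∀ c ∈ L.els, cm (rep v) c = true) → rep v ∈ L.dom)
    (hext : ∀ e : ↥C.K, e * e = 1 → (∀ t ∈ es, e * t = t * e) → extC L (C.cd e) = true →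
      ∀ g : Q, (∀ t ∈ es, g * (t : Q) = t * g) → g * (e : Q) = e * g → g ∈ C.K)
    {g : Q} (hg : ∀ t ∈ es, g * (t : Q) = t * g) : g ∈ C.K := by
  classical
  rw [checkC] at hL
  simp only [Bool.and_eq_true] at hL
  obtain ⟨⟨⟨⟨hels, hxw, hyw⟩, ⟨⟨⟨hxx, hyy⟩, hx4⟩, hy4⟩, hsig⟩, hjoint⟩, htest⟩ := hL
  simp only [List.all_eq_true, Bool.and_eq_true, beq_iff_eq] at hels
  rw [beq_iff_eq] at hxx hyy hx4 hy4
  rw [bne_iff_ne] at hsig
  rw [List.all_eq_true] at hjoint htest
  by_contra hgK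
  obtain ⟨X, hX, eX⟩ := C.exists_word hxw hxx
  obtain ⟨Y, hY, eY⟩ := C.exists_word hyw hyy
  have hmem : ∀ t ∈ es, C.cd t ∈ L.els := fun t ht => hmap ▸ List.mem_map_of_mem ht
  have hXes : ∀ t ∈ es, X * t = t * X := fun t ht =>
    C.code_comm hX (hes t ht) (by rw [eX]; exact (hels _ (hmem t ht)).1.1.2)
  have hYes : ∀ t ∈ es, Y * t = t * Y := fun t ht =>
    C.code_comm hY (hes t ht) (by rw [eY]; exact (hels _ (hmem t ht)).1.2)
  have hfix : ∀ a : ↥C.K, a * a = 1 → cl (C.cd a) = 4 → ∀ h : Q, h * (a : Q) * h⁻¹ ∈ C.K → h ∈ C.K :=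
    fun a ha h4 => C.fix_four a ha h4
  -- invariance of the translates
  have hsigK : ∀ k : ↥C.K, (∀ t ∈ es, (k : Q) * t = t * k) → ∀ a b : ↥C.K, a * a = 1 →
      (∀ t ∈ es, a * t = t * a) → (k : Q) * a * (k : Q)⁻¹ = b →
      cl (C.cd b) = cl (C.cd a) ∧ sigC L (C.cd b) = sigC L (C.cd a) := by
    intro k hk a b ha hat hab
    obtain rfl : k * a * k⁻¹ = b := Subtype.ext hab
    refine ⟨C.kd_conj ha k, ?_⟩
    simp only [sigC, ← hmap, List.map_map]
    refine List.map_congr_left fun t ht => ?_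
    simp only [Function.comp_apply]
    rw [← C.cd_mul, ← C.cd_mul]
    have hkt : k * t * k⁻¹ = t := mul_inv_eq_iff_eq_mul.2 (Subtype.ext (hk t ht))
    rw [show k * a * k⁻¹ * t = k * (a * t) * k⁻¹ by
      conv_lhs => arg 2; rw [← hkt]
      group]
    refine C.kd_conj ?_ k
    rw [mul_assoc a t (a * t), ← mul_assoc t a t, ← hat t ht, mul_assoc a t t, hes t ht, mul_one, ha]
  -- the centraliser of the given elements
  set Cs : Subgroup Q := centralizer ((fun t : ↥C.K => (t : Q)) '' {t | t ∈ es})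
  have hCs : ∀ h : Q, h ∈ Cs ↔ ∀ t ∈ es, h * (t : Q) = t * h := fun h => by
    simp only [Cs, mem_centralizer_iff, Set.forall_mem_image, Set.mem_ofPred_eq]
    exact ⟨fun h' t ht => (h' ht).symm, fun h' t ht => (h' t ht).symm⟩
  have hgC : g ∈ Cs := (hCs g).2 hg
  have hXC : (X : Q) ∈ Cs := (hCs _).2 fun t ht => congrArg Subtype.val (hXes t ht)
  have hYC : (Y : Q) ∈ Cs := (hCs _).2 fun t ht => congrArg Subtype.val (hYes t ht)
  set r : Q := g * X * g⁻¹ with hr
  have hrC : r ∈ Cs := mul_mem (mul_mem hgC hXC) (inv_mem hgC)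
  have hrK : r ∉ C.K := fun h => hgK (hfix X hX (by rw [eX]; exact hx4) g h)
  have hX' : (X : Q) * X = 1 := congrArg Subtype.val hX
  have hY' : (Y : Q) * Y = 1 := congrArg Subtype.val hY
  have hr2 : r * r = 1 := by
    calc r * r = g * ((X : Q) * X) * g⁻¹ := by rw [hr]; group
      _ = 1 := by rw [hX']; group
  have hn : ∀ h ∈ Cs, h * r * h⁻¹ ≠ (Y : Q) := fun h hh e => by
    have e' : h * g * X * (h * g)⁻¹ = (Y : Q) := by rw [← e, hr]; group
    have hk := hfix X hX (by rw [eX]; exact hx4) (h * g) (e' ▸ Y.2)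
    obtain ⟨-, h2⟩ := hsigK ⟨h * g, hk⟩ ((hCs _).1 (mul_mem hh hgC)) X Y hX hXes e'
    rw [eX, eY] at h2
    exact hsig h2.symm
  obtain ⟨e₀, he₀C, he₀2, he₀1, he₀r, he₀Y, hcase⟩ := Cfsg.Lib.SpCentre.master hrC hYC hr2 hY' hn
  have hmoveY : ∀ h : Q, h * (Y : Q) * h⁻¹ ∈ C.K → h ∈ C.K := hfix Y hY (by rw [eY]; exact hy4)
  have hmoveX : ∀ h : Q, h * (X : Q) * h⁻¹ ∈ C.K → h ∈ C.K := hfix X hX (by rw [eX]; exact hx4)
  obtain ⟨e, rfl⟩ : ∃ e : ↥C.K, e₀ = (e : Q) :=
    ⟨⟨e₀, hmoveY _ (by rw [he₀Y.eq, mul_inv_cancel_right]; exact Y.2)⟩, rfl⟩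
  set f₀ : Q := g⁻¹ * e * g with hf₀
  have hf₀X : f₀ * (X : Q) = X * f₀ := by
    calc f₀ * (X : Q) = g⁻¹ * ((e : Q) * r) * g := by rw [hf₀, hr]; group
      _ = g⁻¹ * (r * (e : Q)) * g := by rw [he₀r.eq]
      _ = _ := by rw [hf₀, hr]; group
  obtain ⟨f, hf⟩ : ∃ f : ↥C.K, (f : Q) = f₀ :=
    ⟨⟨f₀, hmoveX _ (by rw [hf₀X, mul_inv_cancel_right]; exact X.2)⟩, rfl⟩
  have hfC : (f : Q) ∈ Cs := hf ▸ mul_mem (mul_mem (inv_mem hgC) he₀C) hgC
  have hef : g * (f : Q) * g⁻¹ = e := by rw [hf, hf₀]; group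
  have he2 : e * e = 1 := Subtype.ext he₀2
  have hf2 : f * f = 1 := Subtype.ext (by
    show (f : Q) * f = 1
    calc (f : Q) * f = g⁻¹ * ((e : Q) * e) * g := by rw [hf, hf₀]; group
      _ = 1 := by rw [he₀2]; group)
  have hes' : ∀ {u : ↥C.K}, (u : Q) ∈ Cs → ∀ t ∈ es, u * t = t * u := fun hu t ht => Subtype.ext ((hCs _).1 hu t ht)
  have hfY : f * X = X * f := Subtype.ext (by show (f : Q) * X = X * f; rw [hf]; exact hf₀X)
  have heY : e * Y = Y * e := Subtype.ext he₀Y.eq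
  -- the elements of the subgroup commute with what centralises the given ones
  have hsub : ∀ v ∈ mul one one :: L.grp, ∃ s : ↥C.K, s * s = 1 ∧ C.cd s = v ∧ ∀ h ∈ Cs, h * (s : Q) = s * h := by
    intro v hv
    rcases List.mem_cons.1 hv with rfl | hv
    · exact ⟨1, one_mul 1, by rw [cd, map_one, rep_one, ← rep_one, ← rep_mul, mul_one],
        fun h _ => by rw [OneMemClass.coe_one, _root_.mul_one, _root_.one_mul]⟩
    · obtain ⟨s, hs, ev, hc⟩ := hgrp v hv
      exact ⟨s, hs, ev, fun h hh => hc h ((hCs h).1 hh)⟩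
  have hone : mul one one = one := by rw [← rep_one, ← rep_mul, _root_.mul_one]
  rw [hone] at hsub
  -- both elements are unsettled
  have hbad : ∀ u : ↥C.K, u * u = 1 → (u : Q) ∈ Cs →
      (¬ ∀ h : Q, (∀ t ∈ es, h * (t : Q) = t * h) → h * (u : Q) = u * h → h ∈ C.K) →
      (∀ s : ↥C.K, s * s = 1 → (∀ h ∈ Cs, h * (s : Q) = s * h) → cl (C.cd (u * s)) ≠ 4) →
      badC L (C.cd u) = true := by
    intro u hu huC hcin hD
    simp only [badC, Bool.and_eq_true, Bool.not_eq_true']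
    refine ⟨Bool.eq_false_iff.2 fun h => ?_, Bool.eq_false_iff.2 fun h => hcin (hext u hu (hes' huC) h)⟩
    obtain ⟨v, hv, h4⟩ := List.any_eq_true.1 h
    obtain ⟨s, hs, rfl, hsc⟩ := hsub v hv
    rw [beq_iff_eq, ← C.cd_mul] at h4
    exact hD s hs hsc h4
  have hsq : ∀ u s : ↥C.K, u * u = 1 → s * s = 1 → (u : Q) * s = s * u → (u * s) * (u * s) = 1 := by
    intro u s hu hs hc
    have hc' : u * s = s * u := Subtype.ext hc
    rw [mul_assoc u s (u * s), ← mul_assoc s u s, ← hc', mul_assoc u s s, hs, _root_.mul_one, hu]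
  have hbe : badC L (C.cd e) = true := hbad e he2 he₀C (fun h => hrK (h r ((hCs r).1 hrC) he₀r.eq.symm))
    fun s hs hsc h4 => hrK (hfix _ (hsq e s he2 hs (hsc _ he₀C)) h4 r (by
      show r * ((e : Q) * s) * r⁻¹ ∈ C.K
      rw [← mul_assoc, ← he₀r.eq, mul_assoc (e : Q) r, hsc r hrC, ← mul_assoc, mul_inv_cancel_right]
      exact mul_mem e.2 s.2))
  have hbf : badC L (C.cd f) = true := hbad f hf2 hfC
    (fun h => hgK (inv_mem_iff.1 (hmoveY g⁻¹ (h _ ((hCs _).1 (mul_mem (mul_mem (inv_mem hgC) hYC)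
      (inv_mem (inv_mem hgC)))) (by
        rw [hf, hf₀, inv_inv]
        calc g⁻¹ * (Y : Q) * g * (g⁻¹ * e * g) = g⁻¹ * ((Y : Q) * e) * g := by group
          _ = g⁻¹ * ((e : Q) * Y) * g := by rw [he₀Y.eq]
          _ = _ := by group)))))
    fun s hs hsc h4 => hgK (hfix _ (hsq f s hf2 hs (hsc _ hfC)) h4 g (by
      show g * ((f : Q) * s) * g⁻¹ ∈ C.K
      rw [show g * ((f : Q) * s) * g⁻¹ = (g * f * g⁻¹) * (g * s * g⁻¹) by group, hef, hsc g hgC, mul_inv_cancel_right]
      exact mul_mem e.2 s.2))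
  -- the two cases
  have hYe : (Y : Q) * e = ((Y * e : ↥C.K) : Q) := rfl
  have key : (cl (C.cd (Y * e)) = 4 ∧ sigC L (C.cd (Y * e)) = sigC L L.y ∧
      cl (C.cd (X * f)) = 4 ∧ sigC L (C.cd (X * f)) = sigC L L.x) ∨
      (cl (C.cd (Y * e)) = 4 ∧ sigC L (C.cd (Y * e)) = sigC L L.x ∧
      cl (C.cd (X * f)) = 4 ∧ sigC L (C.cd (X * f)) = sigC L L.y) := by
    have hre : r * (e : Q) = g * ((X * f : ↥C.K) : Q) * g⁻¹ := by
      show r * (e : Q) = g * ((X : Q) * f) * g⁻¹
      rw [← hef, hr]; group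
    have mv : ∀ (W Z V : ↥C.K), W * W = 1 → cl (C.cd W) = 4 → (∀ t ∈ es, W * t = t * W) → ∀ h ∈ Cs,
        h * (W : Q) * h⁻¹ = (Z : Q) → C.cd W = C.cd V →
        cl (C.cd Z) = 4 ∧ sigC L (C.cd Z) = sigC L (C.cd V) := by
      intro W Z V hW h4 hWt h hh e' eV
      have hk := hfix W hW h4 h (e' ▸ Z.2)
      obtain ⟨h1, h2⟩ := hsigK ⟨h, hk⟩ ((hCs h).1 hh) W Z hW hWt e'
      rw [← eV]
      exact ⟨h1.trans h4, h2⟩
    have hX4 : cl (C.cd X) = 4 := by rw [eX]; exact hx4
    have hY4 : cl (C.cd Y) = 4 := by rw [eY]; exact hy4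
    rcases hcase with ⟨⟨h, hh, e1⟩, h', hh', e2⟩ | ⟨⟨h, hh, e1⟩, h', hh', e2⟩
    · have a1 := mv Y (Y * e) Y hY hY4 hYes h hh e1 rfl
      have a2 := mv X (X * f) X hX hX4 hXes (g⁻¹ * h' * g) (mul_mem (mul_mem (inv_mem hgC) hh') hgC) (by
        calc g⁻¹ * h' * g * X * (g⁻¹ * h' * g)⁻¹ = g⁻¹ * (h' * r * h'⁻¹) * g := by rw [hr]; group
          _ = _ := by rw [e2, hre]; group) rfl
      rw [eY] at a1; rw [eX] at a2
      exact Or.inl ⟨a1.1, a1.2, a2.1, a2.2⟩
    · have a1 := mv X (Y * e) X hX hX4 hXes (h * g) (mul_mem hh hgC) (by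
        calc h * g * X * (h * g)⁻¹ = h * r * h⁻¹ := by rw [hr]; group
          _ = _ := e1) rfl
      have a2 := mv Y (X * f) Y hY hY4 hYes (g⁻¹ * h') (mul_mem (inv_mem hgC) hh') (by
        calc g⁻¹ * h' * (Y : Q) * (g⁻¹ * h')⁻¹ = g⁻¹ * (h' * (Y : Q) * h'⁻¹) * g := by group
          _ = _ := by rw [e2, hre]; group) rfl
      rw [eX] at a1; rw [eY] at a2
      exact Or.inr ⟨a1.1, a1.2, a2.1, a2.2⟩
  rw [C.cd_mul, C.cd_mul, eX, eY] at key
  by_cases hin : C.cd e ∈ L.grp ∨ C.cd f ∈ L.grp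
  · -- an element of the subgroup
    have heq : C.cd e ∈ L.grp ∧ C.cd f = C.cd e := by
      rcases hin with h | h
      · obtain ⟨s, hs, ev, hc⟩ := hsub _ (List.mem_cons_of_mem _ h)
        obtain rfl := C.inj hs he2 (rep_inj ev)
        refine ⟨h, congrArg C.cd (Subtype.ext (?_ : (f : Q) = s))⟩
        rw [hf, hf₀, mul_assoc, ← hc g hgC, inv_mul_cancel_left]
      · obtain ⟨s, hs, ev, hc⟩ := hsub _ (List.mem_cons_of_mem _ h)
        obtain rfl := C.inj hs hf2 (rep_inj ev)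
        have he : e = s := Subtype.ext (by rw [← hef, hc g hgC, mul_inv_cancel_right])
        exact ⟨he ▸ h, by rw [he]⟩
    have hj := hjoint _ heq.1
    rw [heq.2] at key
    rcases key with ⟨k1, k2, k3, k4⟩ | ⟨k1, k2, k3, k4⟩ <;> simp [k1, k2, k3, k4] at hj
  · push Not at hin
    have hne : ∀ u : ↥C.K, u * u = 1 → (u : Q) ∈ Cs → u ≠ 1 → C.cd u ∉ L.grp → badC L (C.cd u) = true →
        cm (C.cd u) L.x = true ∨ cm (C.cd u) L.y = true →
        ((bif L.sy then !sideC L L.y L.y (C.cd u) else !sideC L L.x L.x (C.cd u)) && !sideC L L.y L.x (C.cd u))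
          = true := by
      intro u hu huC hu1 hug hub hxy
      have hcm : ∀ c ∈ L.els, cm (C.cd u) c = true := by
        rw [← hmap]
        intro c hc
        obtain ⟨t, ht, rfl⟩ := List.mem_map.1 hc
        exact C.cm_of_comm (hes' huC t ht)
      have hπ1 : C.π u ≠ 1 := fun h => hu1 (C.inj hu (one_mul 1) (by rw [h, map_one]))
      have h1 : C.cd u ≠ one := fun h => hπ1 (rep_inj (h.trans rep_one.symm))
      have ht := htest (C.cd u) (hdom (C.π u) (by rw [← map_mul, hu, map_one]) hπ1 hcm)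
      simp only [testC, hub, List.elem_eq_mem, hug, h1, List.all_eq_true.2 hcm, decide_false, Bool.not_true,
        Bool.or_false, Bool.false_or, beq_iff_eq, Bool.or_eq_true, Bool.not_eq_true'] at ht
      rcases ht with (h | h) | h
      · exact h.elim
      · rcases hxy with h' | h' <;> simp [h'] at h
      · exact h
    have he1 : e ≠ 1 := fun h => he₀1 (congrArg Subtype.val h)
    have hf1 : f ≠ 1 := fun h => he₀1 (by rw [← hef, congrArg Subtype.val h, OneMemClass.coe_one]; group)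
    have te := hne e he2 he₀C he1 hin.1 hbe (Or.inr (eY ▸ C.cm_of_comm heY))
    have tf := hne f hf2 hfC hf1 hin.2 hbf (Or.inl (eX ▸ C.cm_of_comm hfY))
    have cme : cm (C.cd e) L.y = true := eY ▸ C.cm_of_comm heY
    have cmf : cm (C.cd f) L.x = true := eX ▸ C.cm_of_comm hfY
    rcases key with ⟨k1, k2, k3, k4⟩ | ⟨k1, k2, k3, k4⟩
    · cases hs : L.sy
      · simp [hs, sideC, cmf, k3, k4] at tf
      · simp [hs, sideC, cme, k1, k2] at te
    · simp [sideC, cme, k1, k2] at te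

theorem exists_norm {a : ↥C.K} (ha : a * a = 1) {j : ℕ} (hj : C.kd a = j) :
    ∃ k : ↥C.K, C.cd (k * a * k⁻¹) = prodC (repSet j) := by
  obtain ⟨h5, -, ⟨k, hk⟩, -⟩ := kind_cases (u := C.π a) (by rw [← map_mul, ha, map_one])
  obtain ⟨k, rfl⟩ := C.surj k
  subst hj
  refine ⟨k, ?_⟩
  rw [cd, map_mul, map_mul, map_inv, hk]
  exact rep_repSet ⟨_, h5⟩

/-- being in the subgroup is unchanged by conjugation -/
theorem mem_of_conj {g : Q} (k : ↥C.K) (h : (k : Q) * g * (k : Q)⁻¹ ∈ C.K) : g ∈ C.K := by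
  have := mul_mem (mul_mem (inv_mem k.2) h) k.2
  rwa [show (k : Q)⁻¹ * ((k : Q) * g * (k : Q)⁻¹) * (k : Q) = g by group] at this

theorem conj_commute {g : Q} {a : ↥C.K} (k : ↥C.K) (h : g * (a : Q) = a * g) :
    (k : Q) * g * (k : Q)⁻¹ * ((k * a * k⁻¹ : ↥C.K) : Q) = (k * a * k⁻¹ : ↥C.K) * ((k : Q) * g * (k : Q)⁻¹) := by
  show (k : Q) * g * (k : Q)⁻¹ * ((k : Q) * a * (k : Q)⁻¹) = (k : Q) * a * (k : Q)⁻¹ * ((k : Q) * g * (k : Q)⁻¹)
  calc _ = (k : Q) * (g * a) * (k : Q)⁻¹ := by group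
    _ = _ := by rw [h]; group

theorem dom_mem {v : Sp} (hv : v * v = 1) (h1 : v ≠ 1) :
    (cm (rep v) cA = true → invA2.elem (rep v) = true ∧
      (cl (rep v) = 2 → cl (mul (rep v) cA) = 2 → rep v ∈ fourTab.map fun p => p.1)) ∧
    (cm (rep v) cC = true → invC2.elem (rep v) = true) ∧ (cm (rep v) cT = true → invB1.elem (rep v) = true) := by
  obtain ⟨i, n, hi, hn, e⟩ := exists_code hv
  have h := List.all_eq_true.1 (cover_ok hi) n (List.mem_range.2 hn)
  rw [← e] at h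
  simp only [Bool.or_eq_true, Bool.and_eq_true, beq_iff_eq, Bool.not_eq_true', List.elem_eq_mem,
    decide_eq_true_eq, Bool.and_eq_false_iff, beq_eq_false_iff_ne] at h ⊢
  rcases h with h | ⟨⟨hA, hC⟩, hT⟩
  · exact absurd (rep_inj (h.trans rep_one.symm)) h1
  · refine ⟨fun q => ?_, fun q => ?_, fun q => ?_⟩
    · rcases hA with hA | ⟨hA, hB⟩
      · rw [hA] at q; exact absurd q Bool.false_ne_true
      · refine ⟨hA, fun q1 q2 => ?_⟩
        rcases hB with (hB | hB) | hB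
        · exact absurd q1 hB
        · exact absurd q2 hB
        · exact hB
    · rcases hC with hC | hC
      · rw [hC] at q; exact absurd q Bool.false_ne_true
      · exact hC
    · rcases hT with hT | hT
      · rw [hT] at q; exact absurd q Bool.false_ne_true
      · exact hT

theorem cent_four {a b : ↥C.K} (ha : a * a = 1) (hb : b * b = 1) (hab : a * b = b * a) (ha3 : C.kd a = 3)
    (hb2 : C.kd b = 2) (hab2 : C.kd (b * a) = 2) {g : Q} (hga : g * (a : Q) = a * g) (hgb : g * (b : Q) = b * g) :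
    g ∈ C.K := by
  obtain ⟨k, hk⟩ := C.exists_norm ha ha3
  rw [rep_codes.1] at hk
  refine C.mem_of_conj k ?_
  set a' := k * a * k⁻¹ with ha'
  set b' := k * b * k⁻¹ with hb'
  have hab' : a' * b' = b' * a' := by
    rw [ha', hb']
    calc k * a * k⁻¹ * (k * b * k⁻¹) = k * (a * b) * k⁻¹ := by group
      _ = _ := by rw [hab]; group
  have hb1 : C.π b' ≠ 1 := fun h => by
    have := C.kd_conj hb k
    rw [← hb', kd, h, kind_one, hb2] at this
    exact absurd this (by decide)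
  have hcm : cm (C.cd b') cA = true := by rw [← hk]; exact C.cm_of_comm hab'.symm
  have hdom := fun v hv h1 => dom_mem (v := v) hv h1
  obtain ⟨-, hrow⟩ := (hdom _ (by rw [← map_mul, C.conj_sq hb, map_one]) hb1).1 hcm
  obtain ⟨p, hp, hp1⟩ := List.mem_map.1 (hrow (by rw [← cd, C.cl_cd, C.kd_conj hb, hb2]) (by
    rw [← cd, ← hk, ← C.cd_mul, C.cl_cd, hb', ha',
      show k * b * k⁻¹ * (k * a * k⁻¹) = k * (b * a) * k⁻¹ by group, C.kd_conj (by
        rw [mul_assoc b a (b * a), ← mul_assoc a b a, hab, mul_assoc b a a, ha, _root_.mul_one, hb]), hab2]))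
  have hp1' : p.1 = C.cd b' := hp1
  refine C.step (levFour p) (List.all_eq_true.1 check_four p hp) [a', b'] ?_ ?_ ?_ ?_ ?_ ?_
  · simp [C.conj_sq ha, C.conj_sq hb, ha', hb']
  · show [C.cd a', C.cd b'] = [cA, p.1]
    rw [hk, hp1']
  · intro v hv
    rcases List.mem_cons.1 hv with rfl | hv
    · exact ⟨a', C.conj_sq ha k, hk, fun h hh => hh a' (by simp)⟩
    rcases List.mem_cons.1 hv with rfl | hv
    · exact ⟨b', C.conj_sq hb k, hp1'.symm, fun h hh => hh b' (by simp)⟩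
    · obtain rfl := List.mem_singleton.1 hv
      refine ⟨a' * b', ?_, by rw [C.cd_mul, hk, hp1'], fun h hh => ?_⟩
      · rw [mul_assoc a' b' (a' * b'), ← mul_assoc b' a' b', ← hab', mul_assoc a' b' b', hb', C.conj_sq hb,
          _root_.mul_one, ha', C.conj_sq ha]
      · exact ((show Commute h (a' : Q) from hh a' (by simp)).mul_right (hh b' (by simp))).eq
  · intro v hv h1 hc
    exact List.elem_iff.1 ((hdom v hv h1).1 (hc cA (List.mem_cons_self ..))).1
  · intro e _ _ hx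
    simp [extC, levFour] at hx
  · intro t ht
    rcases List.mem_cons.1 ht with rfl | ht
    · exact C.conj_commute k hga
    · obtain rfl := List.mem_singleton.1 ht
      exact C.conj_commute k hgb

/-- a step with one generator -/
theorem cent_single (j : ℕ) (L : Lev) (hL : checkC L = true) (c : ℕ) (hc : prodC (repSet j) = c) (hels : L.els = [c])
    (hgrp : L.grp = [c]) (hdom : ∀ v : Sp, v * v = 1 → v ≠ 1 → cm (rep v) c = true → L.dom.elem (rep v) = true)
    (hext : ∀ e a : ↥C.K, e * e = 1 → a * a = 1 → e * a = a * e → C.kd a = j → extC L (C.cd e) = true →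
      C.cd a = c → ∀ g : Q, g * (a : Q) = a * g → g * (e : Q) = e * g → g ∈ C.K)
    {a : ↥C.K} (ha : a * a = 1) (haj : C.kd a = j) {g : Q} (hga : g * (a : Q) = a * g) : g ∈ C.K := by
  obtain ⟨k, hk⟩ := C.exists_norm ha haj
  rw [hc] at hk
  refine C.mem_of_conj k (C.step L hL [k * a * k⁻¹] ?_ ?_ ?_ ?_ ?_ ?_)
  · simp [C.conj_sq ha]
  · rw [hels, List.map_singleton, hk]
  · intro v hv
    rw [hgrp, List.mem_singleton] at hv
    subst hv
    exact ⟨_, C.conj_sq ha k, hk, fun h hh => hh _ (List.mem_singleton_self _)⟩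
  · intro v hv h1 hcm
    exact List.elem_iff.1 (hdom v hv h1 (hcm c (by rw [hels]; exact List.mem_singleton_self _)))
  · intro e he hea hx h hh hhe
    exact hext e _ he (C.conj_sq ha k) (hea _ (List.mem_singleton_self _)) (by rw [C.kd_conj ha, haj]) hx hk h
      (hh _ (List.mem_singleton_self _)) hhe
  · intro t ht
    obtain rfl := List.mem_singleton.1 ht
    exact C.conj_commute k hga

theorem cent_two {a : ↥C.K} (ha : a * a = 1) (ha2 : C.kd a = 2) {g : Q} (hga : g * (a : Q) = a * g) : g ∈ C.K := by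
  refine C.cent_single 2 levC check_C cC rep_codes.2.1 rfl rfl (fun v hv h1 h => (dom_mem hv h1).2.1 h)
    (fun e b he hb heb hb2 hx hbc h hhb hhe => ?_) ha ha2 hga
  have hm : C.kd (e * b) = cl (mul (C.cd e) cC) := by rw [← hbc, ← C.cd_mul, C.cl_cd]
  have hsq : e * b * (e * b) = 1 := by
    rw [mul_assoc e b (e * b), ← mul_assoc b e b, ← heb, mul_assoc e b b, hb, _root_.mul_one, he]
  simp only [extC, levC, List.headD_cons, Bool.or_eq_true, Bool.and_eq_true, beq_iff_eq, C.cl_cd, ← hm] at hx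
  rcases hx with hx | hx
  · rcases hx.2 with ⟨h3, h2⟩ | ⟨h2, h3⟩
    · exact C.cent_four he hb heb h3 hb2 (by rw [← heb]; exact h2) hhe hhb
    · refine C.cent_four hsq hb (by rw [mul_assoc, hb, _root_.mul_one, ← mul_assoc, ← heb, mul_assoc, hb, _root_.mul_one])
        h3 hb2 (by rw [← mul_assoc, ← heb, mul_assoc, hb, _root_.mul_one]; exact h2) ?_ hhb
      exact ((show Commute h (e : Q) from hhe).mul_right hhb).eq
  · exact absurd hx.1 (by decide)

theorem cent_other {j : ℕ} (hj : j = 1 ∨ j = 3) {a : ↥C.K} (ha : a * a = 1) (haj : C.kd a = j) {g : Q}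
    (hga : g * (a : Q) = a * g) : g ∈ C.K := by
  have key : ∀ L : Lev, L.mode = 2 → ∀ c, L.els = [c] → ∀ e b : ↥C.K, e * e = 1 → b * b = 1 → e * b = b * e →
      extC L (C.cd e) = true → C.cd b = c → ∀ h : Q, h * (b : Q) = b * h → h * (e : Q) = e * h → h ∈ C.K := by
    intro L hm c hc e b he hb heb hx hbc h hhb hhe
    simp only [extC, hm, hc, List.headD_cons, Bool.or_eq_true, Bool.and_eq_true, beq_iff_eq, ← hbc, ← C.cd_mul,
      C.cl_cd] at hx
    rcases hx with hx | hx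
    · exact absurd hx.1 (by decide)
    · rcases hx.2 with h2 | h2
      · exact C.cent_two he h2 hhe
      · refine C.cent_two ?_ h2 ((show Commute h (e : Q) from hhe).mul_right hhb).eq
        rw [mul_assoc e b (e * b), ← mul_assoc b e b, ← heb, mul_assoc e b b, hb, _root_.mul_one, he]
  rcases hj with rfl | rfl
  · exact C.cent_single 1 levT check_T cT rep_codes.2.2 rfl rfl (fun v hv h1 h => (dom_mem hv h1).2.2 h)
      (fun e b he hb heb _ hx hbc => key levT rfl cT rfl e b he hb heb hx hbc) ha haj hga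
  · exact C.cent_single 3 levA check_A cA rep_codes.1 rfl rfl (fun v hv h1 h => ((dom_mem hv h1).1 h).1)
      (fun e b he hb heb _ hx hbc => key levA rfl cA rfl e b he hb heb hx hbc) ha haj hga

/-- THE CONCLUSION. -/
theorem eq_top : C.K = ⊤ := by
  refine (eq_top_iff' C.K).2 fun g => by_contra fun hgK => ?_
  have hrep : ∀ j : Fin 5, j.val ≠ 0 → ∃ s : ↥C.K, s * s = 1 ∧ C.kd s = j.val := by
    intro j _
    have hsq : ∀ j : Fin 5, mul (prodC (repSet j.val)) (prodC (repSet j.val)) = one ∧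
        cl (prodC (repSet j.val)) = j.val := by decide +kernel
    obtain ⟨s, hs, e⟩ := C.exists_lift (v := prodS (repSet j.val)) (rep_inj (by
      rw [rep_mul, rep_repSet, (hsq j).1, rep_one]))
    exact ⟨s, hs, by rw [← C.cl_cd, cd, e, rep_repSet, (hsq j).2]⟩
  obtain ⟨X, hX, hX4⟩ := hrep 4 (by decide)
  obtain ⟨Y, hY, hY1⟩ := hrep 1 (by decide)
  set r : Q := g * X * g⁻¹ with hr
  have hrK : r ∉ C.K := fun h => hgK (C.fix_four X hX hX4 g h)
  have hX' : (X : Q) * X = 1 := congrArg Subtype.val hX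
  have hr2 : r * r = 1 := by
    calc r * r = g * ((X : Q) * X) * g⁻¹ := by rw [hr]; group
      _ = 1 := by rw [hX']; group
  have hn : ∀ h ∈ (⊤ : Subgroup Q), h * r * h⁻¹ ≠ (Y : Q) := fun h _ e => by
    have e' : h * g * X * (h * g)⁻¹ = (Y : Q) := by rw [← e, hr]; group
    have hk := C.fix_four X hX hX4 (h * g) (e' ▸ Y.2)
    obtain rfl : (⟨h * g, hk⟩ : ↥C.K) * X * (⟨h * g, hk⟩ : ↥C.K)⁻¹ = Y := Subtype.ext e'
    rw [C.kd_conj hX, hX4] at hY1
    exact absurd hY1 (by decide)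
  obtain ⟨e₀, -, he2, he1, her, heY, -⟩ :=
    Cfsg.Lib.SpCentre.master (mem_top r) (mem_top _) hr2 (congrArg Subtype.val hY) hn
  have heK : e₀ ∈ C.K := C.cent_other (Or.inl rfl) hY hY1 heY.eq
  have he : (⟨e₀, heK⟩ : ↥C.K) * ⟨e₀, heK⟩ = 1 := Subtype.ext he2
  obtain ⟨h5, h0⟩ := C.kd_lt he
  have hcom : r * e₀ = e₀ * r := her.eq.symm
  rcases (show C.kd ⟨e₀, heK⟩ = 0 ∨ C.kd ⟨e₀, heK⟩ = 1 ∨ C.kd ⟨e₀, heK⟩ = 2 ∨ C.kd ⟨e₀, heK⟩ = 3 ∨
      C.kd ⟨e₀, heK⟩ = 4 by omega) with h | h | h | h | h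
  · exact he1 (congrArg Subtype.val (h0 h))
  · exact hrK (C.cent_other (Or.inl rfl) he h hcom)
  · exact hrK (C.cent_two he h hcom)
  · exact hrK (C.cent_other (Or.inr rfl) he h hcom)
  · exact hrK (C.fix_four _ he h r (by
      show r * e₀ * r⁻¹ ∈ C.K
      rw [hcom, mul_inv_cancel_right]
      exact heK))

end Cfg

/-- THE CENTRALISER of an involution lies in a subgroup controlling the fusion of a commuting involution of the class of
the smallest centraliser, if its part in the subgroup maps onto the symplectic group with the expected kernel. -/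
theorem cent_le_of_six {G : Type u} [Group G] [Finite G] (H : Subgroup G) (z w : G) (hwH : w ∈ H) (hzH : z ∈ H)
    (hw2 : w * w = 1) (hz2 : z * z = 1) (hzw : z * w = w * z) (hfix : ∀ g : G, g * z * g⁻¹ ∈ H → g ∈ H)
    (π : ↥(H ⊓ centralizer ({w} : Set G)) →* Sp) (hsurj : Function.Surjective π)
    (hπw : π ⟨w, hwH, mem_centralizer_singleton_iff.2 rfl⟩ = 1)
    (hker : ∀ k, π k = 1 → ∃ a, π a = 1 ∧ Odd (orderOf a) ∧
      (∀ s : ↥(H ⊓ centralizer ({w} : Set G)), s * s * (s * s) = 1 → a * s = s * a) ∧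
      ((k : G) = a ∨ (k : G) = a * w))
    (hz4 : kindS (π ⟨z, hzH, mem_centralizer_singleton_iff.2 hzw⟩) = 4) :
    centralizer ({w} : Set G) ≤ H := by
  classical
  have hwC : w ∈ (centralizer ({w} : Set G)) := mem_centralizer_singleton_iff.2 rfl
  let W : Subgroup ↥(centralizer ({w} : Set G)) := zpowers ⟨w, hwC⟩
  have hwc : ∀ x : ↥(centralizer ({w} : Set G)), x * ⟨w, hwC⟩ = ⟨w, hwC⟩ * x := fun x => Subtype.ext (mem_centralizer_singleton_iff.1 x.2)
  haveI : W.Normal := ⟨fun n hn x => by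
    obtain ⟨i, rfl⟩ := mem_zpowers_iff.1 hn
    rw [((show Commute x ⟨w, hwC⟩ from hwc x).zpow_right i).eq, mul_inv_cancel_right]
    exact zpow_mem (mem_zpowers _) i⟩
  have hW : ∀ x : ↥(centralizer ({w} : Set G)), x ∈ W → (x : G) = 1 ∨ (x : G) = w := by
    intro x hx
    obtain ⟨i, rfl⟩ := mem_zpowers_iff.1 hx
    rw [SubgroupClass.coe_zpow]
    show w ^ i = 1 ∨ w ^ i = w
    have hw : w ^ (2 : ℤ) = 1 := by rw [zpow_two, hw2]
    rcases Int.even_or_odd' i with ⟨l, rfl | rfl⟩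
    · exact Or.inl (by rw [zpow_mul, hw, one_zpow])
    · exact Or.inr (by rw [zpow_add, zpow_mul, hw, one_zpow, zpow_one, one_mul])
  set q := QuotientGroup.mk' W with hq
  let D := H ⊓ (centralizer ({w} : Set G))
  let f : ↥D →* ↥(centralizer ({w} : Set G)) ⧸ W := q.comp (inclusion inf_le_right)
  have hfker : f.ker ≤ π.ker := fun x hx => by
    have h := hW _ ((QuotientGroup.eq_one_iff _).1 hx)
    rcases h with h | h
    · rw [show x = 1 from Subtype.ext h]; exact one_mem _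
    · rw [MonoidHom.mem_ker, show x = ⟨w, hwH, hwC⟩ from Subtype.ext h]; exact hπw
  let π' : ↥f.range →* Sp := MonoidHom.liftOfSurjective f.rangeRestrict f.rangeRestrict_surjective
    ⟨π, by rwa [MonoidHom.ker_rangeRestrict]⟩
  have hπ' : ∀ x, π' (f.rangeRestrict x) = π x := fun x =>
    MonoidHom.liftOfRightInverse_comp_apply _ _ _ ⟨π, by rwa [MonoidHom.ker_rangeRestrict]⟩ x
  have hfw : ∀ x y : ↥D, f x = f y → (x : G) = y ∨ (x : G) = y * w := by
    intro x y h
    rcases hW _ (QuotientGroup.eq.1 h.symm) with h | h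
    · exact Or.inl (inv_mul_eq_one.1 (show (y : G)⁻¹ * x = 1 from h)).symm
    · exact Or.inr (inv_mul_eq_iff_eq_mul.1 (show (y : G)⁻¹ * x = w from h))
  have hfour : ∀ x : ↥D, f x * f x = 1 → x * x * (x * x) = 1 := by
    intro x hx
    rcases hfw (x * x) 1 (by rw [map_mul, hx, map_one]) with h | h
    · rw [show x * x = 1 from Subtype.ext h, one_mul]
    · exact Subtype.ext (by
        show ((x * x : ↥D) : G) * ((x * x : ↥D) : G) = 1
        rw [h, OneMemClass.coe_one, one_mul, hw2])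
  have hcomm : ∀ a : ↥D, π a = 1 → (∀ s : ↥D, s * s * (s * s) = 1 → a * s = s * a) →
      ∀ k : ↥f.range, (k : ↥(centralizer ({w} : Set G)) ⧸ W) = f a → ∀ s : ↥f.range, s * s = 1 → k * s = s * k := by
    intro a _ hc k hk ⟨_, x, rfl⟩ hs
    refine Subtype.ext ?_
    show (k : ↥(centralizer ({w} : Set G)) ⧸ W) * f x = f x * k
    rw [hk, ← map_mul, ← map_mul, hc x (hfour x (congrArg Subtype.val hs))]
  have hk' : ∀ k : ↥f.range, π' k = 1 → ∃ a : ↥D, π a = 1 ∧ Odd (orderOf a) ∧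
      (∀ s : ↥D, s * s * (s * s) = 1 → a * s = s * a) ∧ (k : ↥(centralizer ({w} : Set G)) ⧸ W) = f a := by
    rintro ⟨_, x, rfl⟩ hx
    obtain ⟨a, ha, ho, hc, h⟩ := hker x (by rw [← hπ' x]; exact hx)
    refine ⟨a, ha, ho, hc, ?_⟩
    show f x = f a
    rcases h with h | h
    · rw [show x = a from Subtype.ext h]
    · rw [show x = a * ⟨w, hwH, hwC⟩ from Subtype.ext h, map_mul]
      exact mul_eq_left.2 ((QuotientGroup.eq_one_iff _).2 (mem_zpowers (⟨w, hwC⟩ : ↥(centralizer ({w} : Set G)))))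
  let Cf : Cfg (↥(centralizer ({w} : Set G)) ⧸ W) :=
  { K := f.range
    π := π'
    surj := fun v => by obtain ⟨x, rfl⟩ := hsurj v; exact ⟨f.rangeRestrict x, hπ' x⟩
    odd := fun k hk => by
      obtain ⟨a, -, ho, -, e⟩ := hk' k hk
      rw [← orderOf_injective f.range.subtype (subtype_injective _) k]
      show Odd (orderOf (f.range.subtype k))
      rw [show f.range.subtype k = f a from e]
      exact ho.of_dvd_nat (orderOf_map_dvd f a)
    cen := fun k s hk hs => by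
      obtain ⟨a, ha, -, hc, e⟩ := hk' k hk
      exact hcomm a ha hc k e s hs
    fix_four := by
      rintro ⟨_, x, rfl⟩ hs h4 g hg
      obtain ⟨g, rfl⟩ := QuotientGroup.mk_surjective g
      obtain ⟨y, hy⟩ := hg
      have hxH : (g : G) * x * (g : G)⁻¹ ∈ H := by
        rcases hW _ (QuotientGroup.eq.1 (show ((inclusion inf_le_right y : ↥(centralizer ({w} : Set G))) : ↥(centralizer ({w} : Set G)) ⧸ W) =
          ((g * inclusion inf_le_right x * g⁻¹ : ↥(centralizer ({w} : Set G))) : ↥(centralizer ({w} : Set G)) ⧸ W) from hy)) with h | h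
        · rw [← inv_mul_eq_one.1 (show (y : G)⁻¹ * ((g : G) * x * (g : G)⁻¹) = 1 from h)]; exact y.2.1
        · rw [inv_mul_eq_iff_eq_mul.1 (show (y : G)⁻¹ * ((g : G) * x * (g : G)⁻¹) = w from h)]
          exact mul_mem y.2.1 hwH
      -- the element is the image of a conjugate of the given one
      have hπx : π' ⟨f x, x, rfl⟩ = π x := hπ' x
      have hπx2 : π x * π x = 1 := by rw [← hπx, ← map_mul, hs, map_one]
      rw [hπx] at h4
      set zD : ↥D := ⟨z, hzH, mem_centralizer_singleton_iff.2 hzw⟩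
      have hzD : zD * zD = 1 := Subtype.ext hz2
      obtain ⟨-, -, ⟨k1, e1⟩, -⟩ := kind_cases (u := π zD) (by rw [← map_mul, hzD, map_one])
      obtain ⟨-, -, ⟨k2, e2⟩, -⟩ := kind_cases hπx2
      rw [hz4] at e1; rw [h4] at e2
      obtain ⟨c, hc⟩ := hsurj (k2⁻¹ * k1)
      have hcx : π (c * zD * c⁻¹) = π x := by
        rw [map_mul, map_mul, map_inv, hc]
        calc k2⁻¹ * k1 * π zD * (k2⁻¹ * k1)⁻¹ = k2⁻¹ * (k1 * π zD * k1⁻¹) * k2 := by group
          _ = π x := by rw [e1, ← e2]; group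
      -- the two lifts agree modulo the central involution
      have hdiff : f x = f (c * zD * c⁻¹) := by
        set y' := c * zD * c⁻¹ with hy'
        have hy2 : f y' * f y' = 1 := by
          rw [← map_mul, hy', show c * zD * c⁻¹ * (c * zD * c⁻¹) = c * (zD * zD) * c⁻¹ by group, hzD]
          simp
        have hx2 : f x * f x = 1 := congrArg Subtype.val hs
        have hk1 : π' (f.rangeRestrict (x * y'⁻¹)) = 1 := by rw [hπ', map_mul, map_inv, hcx, mul_inv_cancel]
        obtain ⟨a, -, ho, hc', e⟩ := hk' _ hk1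
        have e' : f x * (f y')⁻¹ = f a := by rw [← map_inv, ← map_mul]; exact e
        rw [inv_eq_of_mul_eq_one_right hy2] at e'
        have hcm : f a * f x = f x * f a := by rw [← map_mul, ← map_mul, hc' x (hfour x hx2)]
        have h2 : f a ^ 2 = 1 := by
          rw [pow_two]
          nth_rw 2 [← e']
          rw [← mul_assoc, hcm, ← e', ← mul_assoc (f x) (f x), hx2, one_mul, hy2]
        have h1 : f a = 1 := orderOf_eq_one_iff.1
          (Nat.Coprime.eq_one_of_dvd ((ho.of_dvd_nat (orderOf_map_dvd f a)).coprime_two_right) (orderOf_dvd_of_pow_eq_one h2))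
        rw [h1] at e'
        calc f x = f x * (f y' * f y') := by rw [hy2, mul_one]
          _ = f y' := by rw [← mul_assoc, e', one_mul]
      have hgH : (g : G) ∈ H := by
        have hgw : (g : G) * w * (g : G)⁻¹ = w := mul_inv_eq_iff_eq_mul.2 (mem_centralizer_singleton_iff.1 g.2)
        have hz' : ((g : G) * (c : G)) * z * ((g : G) * (c : G))⁻¹ ∈ H := by
          rcases hfw _ _ hdiff with h | h
          · rw [h] at hxH
            have e : ((g : G) * (c : G)) * z * ((g : G) * (c : G))⁻¹ = (g : G) * ((c : G) * z * (c : G)⁻¹) * (g : G)⁻¹ := by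
              group
            rw [e]; exact hxH
          · rw [h, show (g : G) * (((c * zD * c⁻¹ : ↥D) : G) * w) * (g : G)⁻¹ =
              ((g : G) * ((c : G) * z * (c : G)⁻¹) * (g : G)⁻¹) * ((g : G) * w * (g : G)⁻¹) by
                show (g : G) * ((c : G) * z * (c : G)⁻¹ * w) * (g : G)⁻¹ = _
                group, hgw] at hxH
            have e := mul_mem hxH hwH
            rw [mul_assoc _ w w, hw2, mul_one] at e
            rw [show ((g : G) * (c : G)) * z * ((g : G) * (c : G))⁻¹ = (g : G) * ((c : G) * z * (c : G)⁻¹) * (g : G)⁻¹ by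
              group]
            exact e
        have h := mul_mem (hfix _ hz') (inv_mem c.2.1)
        rwa [mul_inv_cancel_right] at h
      exact ⟨⟨g, hgH, g.2⟩, rfl⟩ }
  intro g hg
  obtain ⟨x, hx⟩ : (QuotientGroup.mk ⟨g, hg⟩ : ↥(centralizer ({w} : Set G)) ⧸ W) ∈ f.range := by
    show _ ∈ Cf.K
    rw [Cf.eq_top]
    exact mem_top _
  rcases hW _ (QuotientGroup.eq.1 (show ((inclusion inf_le_right x : ↥(centralizer ({w} : Set G))) : ↥(centralizer ({w} : Set G)) ⧸ W) =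
    ((⟨g, hg⟩ : ↥(centralizer ({w} : Set G))) : ↥(centralizer ({w} : Set G)) ⧸ W) from hx)) with h | h
  · rw [← inv_mul_eq_one.1 (show (x : G)⁻¹ * g = 1 from h)]; exact x.2.1
  · rw [inv_mul_eq_iff_eq_mul.1 (show (x : G)⁻¹ * g = w from h)]; exact mul_mem x.2.1 hwH

/-- The same, with the class of the commuting involution given by the order of its centraliser in the image. -/
theorem cent_le_of_six' {G : Type u} [Group G] [Finite G] (H : Subgroup G) (z w : G) (hwH : w ∈ H) (hzH : z ∈ H)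
    (hw2 : w * w = 1) (hz2 : z * z = 1) (hzw : z * w = w * z) (hfix : ∀ g : G, g * z * g⁻¹ ∈ H → g ∈ H)
    (π : ↥(H ⊓ centralizer ({w} : Set G)) →* Sp) (hsurj : Function.Surjective π)
    (hπw : π ⟨w, hwH, mem_centralizer_singleton_iff.2 rfl⟩ = 1)
    (hker : ∀ k, π k = 1 → ∃ a, π a = 1 ∧ Odd (orderOf a) ∧
      (∀ s : ↥(H ⊓ centralizer ({w} : Set G)), s * s * (s * s) = 1 → a * s = s * a) ∧
      ((k : G) = a ∨ (k : G) = a * w))
    (hz1 : π ⟨z, hzH, mem_centralizer_singleton_iff.2 hzw⟩ ≠ 1)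
    (hcard : Nat.card (centralizer ({π ⟨z, hzH, mem_centralizer_singleton_iff.2 hzw⟩} : Set Sp)) < 512) :
    centralizer ({w} : Set G) ≤ H :=
  cent_le_of_six H z w hwH hzH hw2 hz2 hzw hfix π hsurj hπw hker
    (kind_four_of_cent (by rw [← map_mul, show (⟨z, hzH, mem_centralizer_singleton_iff.2 hzw⟩ :
      ↥(H ⊓ centralizer ({w} : Set G))) * ⟨z, hzH, mem_centralizer_singleton_iff.2 hzw⟩ = 1 from Subtype.ext hz2,
      map_one]) hz1 hcard)

end Cfsg.Lib.StdMTwelve.Six
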