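import Cfsg.Agent.StdMTwelve.CoreSixCode
import Cfsg.Agent.LocalThree.SpCentre.SixModel

/-!
Classes of involutions of the symplectic group of degree six over two elements by fixed vectors.
-/

set_option autoImplicit false
set_option maxRecDepth 8000
set_option linter.unusedSectionVars false

namespace Cfsg.Lib.StdMTwelve.Six

open Cfsg.Lib.SpSixTwo
open Cfsg.Lib.SpCentre.Code (cl rep rep_mul rep_one rep_inj rep_prod prodS repSet prodC conjC cx classify exists_span
  ap_rep form_actV code_values lagWords spanSets spanCodes lagCodes lagInvs wordS wordS_reverse rep_word rep_lt bform)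

/-- the class of an element -/
noncomputable def kindS (u : Sp) : ℕ := cl (rep u)

theorem actV_equiv (k : Sp) : ∃ σ : Fin 64 ≃ Fin 64, ∀ v : Fin 64, (σ v).val = actV k v.val :=
  ⟨{ toFun := fun v => ⟨actV k v.val, actV_lt _ _⟩
     invFun := fun v => ⟨actV k⁻¹ v.val, actV_lt _ _⟩
     left_inv := fun v => Fin.ext (by
       show actV k⁻¹ (actV k v.val) = v.val
       rw [← actV_mul, inv_mul_cancel, actV_one v.2])
     right_inv := fun v => Fin.ext (by
       show actV k (actV k⁻¹ v.val) = v.val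
       rw [← actV_mul, mul_inv_cancel, actV_one v.2]) }, fun _ => rfl⟩

theorem nfix_eq (u : Sp) : nfix (rep u) = Nat.card {v : Fin 64 // actV u v.val = v.val} := by
  have h1 : nfix (rep u) = ((Finset.range 64).filter fun v => actV u v = v).card := by
    rw [nfix, show ((List.range 64).filter fun v => Cfsg.Lib.SpCentre.Code.ap (rep u) v == v) =
      (List.range 64).filter (fun v => decide (actV u v = v)) from List.filter_congr fun v hv => by
        rw [ap_rep u (List.mem_range.1 hv)]; rfl]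
    rfl
  rw [h1, Nat.card_eq_fintype_card, Fintype.card_subtype]
  refine Finset.card_bij (fun v hv => ⟨v, Finset.mem_range.1 (Finset.mem_filter.1 hv).1⟩)
    (fun v hv => Finset.mem_filter.2 ⟨Finset.mem_univ _, (Finset.mem_filter.1 hv).2⟩)
    (fun a _ b _ e => congrArg Fin.val e)
    (fun v hv => ⟨v.val, Finset.mem_filter.2 ⟨Finset.mem_range.2 v.2, (Finset.mem_filter.1 hv).2⟩, rfl⟩)

theorem alt_iff (u : Sp) : alt64 (rep u) = true ↔ ∀ v : Fin 64, bform v.val (actV u v.val) = false := by
  simp only [alt64, List.all_eq_true, List.mem_range, Bool.not_eq_true']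
  exact ⟨fun h v => ap_rep u v.2 ▸ h v.val v.2, fun h v hv => by rw [ap_rep u hv]; exact h ⟨v, hv⟩⟩

theorem kindC_conj (k u : Sp) : kindC (rep (k * u * k⁻¹)) = kindC (rep u) := by
  obtain ⟨σ, hσ⟩ := actV_equiv k
  have hc : ∀ v : Fin 64, actV (k * u * k⁻¹) (σ v).val = actV k (actV u v.val) := fun v => by
    rw [hσ, ← actV_mul, inv_mul_cancel_right, actV_mul]
  have h1 : nfix (rep (k * u * k⁻¹)) = nfix (rep u) := by
    rw [nfix_eq, nfix_eq]
    refine Nat.card_congr (Equiv.symm (σ.subtypeEquiv fun v => ?_))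
    rw [hc, hσ]
    refine ⟨fun h => by rw [h], fun h => ?_⟩
    have e := congrArg (actV k⁻¹) h
    rwa [← actV_mul k⁻¹ k, ← actV_mul k⁻¹ k, inv_mul_cancel, actV_one (actV_lt _ _), actV_one v.2] at e
  have h2 : alt64 (rep (k * u * k⁻¹)) = alt64 (rep u) := by
    refine Bool.eq_iff_iff.2 ((alt_iff _).trans (Iff.trans ?_ (alt_iff _).symm))
    constructor
    · intro h v
      have e := h (σ v)
      rwa [hc, hσ, form_actV k v.2 (actV_lt _ _)] at e
    · intro h v
      obtain ⟨v, rfl⟩ := σ.surjective v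
      rw [hc, hσ, form_actV k v.2 (actV_lt _ _)]
      exact h v
  rw [kindC, kindC, h1, h2]

theorem rep_repSet (j : Fin 5) : rep (prodS (repSet j.val)) = prodC (repSet j.val) := rep_prod (rep_lt j)

/-- Every involution is conjugate to the representative of its class. -/
theorem kind_cases {u : Sp} (hu : u * u = 1) : kindS u < 5 ∧ (kindS u = 0 → u = 1) ∧
    (∃ k, k * u * k⁻¹ = prodS (repSet (kindS u))) ∧ kindC (rep u) = kindS u := by
  obtain ⟨h5, h0, ⟨k, hk⟩, -, -⟩ := classify hu
  refine ⟨h5, h0, ⟨k, hk⟩, ?_⟩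
  rw [← kindC_conj k u, hk, rep_repSet ⟨_, h5⟩, kind_reps ⟨_, h5⟩]
  rfl

/-- The class is invariant. -/
theorem kindS_conj {u : Sp} (hu : u * u = 1) (k : Sp) : kindS (k * u * k⁻¹) = kindS u := by
  have hk : k * u * k⁻¹ * (k * u * k⁻¹) = 1 := by
    calc k * u * k⁻¹ * (k * u * k⁻¹) = k * (u * u) * k⁻¹ := by group
      _ = 1 := by rw [hu]; group
  rw [← (kind_cases hk).2.2.2, kindC_conj, (kind_cases hu).2.2.2]

theorem kind_one : kindS 1 = 0 := by rw [kindS, rep_one]; decide +kernel

/-- Involutions are among the listed conjugates. -/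
theorem exists_code {u : Sp} (hu : u * u = 1) : ∃ i n, i < 135 ∧ n < 64 ∧ rep u = conjC i n := by
  obtain ⟨i, n, hi, hn, hxe⟩ := exists_span hu
  obtain ⟨hcode, hspan⟩ := code_values
  rw [beq_iff_eq] at hspan
  have hci := List.all_eq_true.1 hcode i (List.mem_range.2 hi)
  simp only [Bool.and_eq_true, beq_iff_eq] at hci
  have hl : n < spanSets.length := by simpa [spanSets] using hn
  have hspn : rep (prodS (spanSets.getD n [])) = spanCodes.getD n 0 := by
    have key : ∀ n : Fin 64, ∀ c ∈ spanSets.getD n.val [], c < 64 := by decide +kernel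
    rw [rep_prod (key ⟨n, hn⟩), hspan, List.getD_eq_getElem (spanSets.map prodC) 0 (by simpa using hl), List.getElem_map,
      List.getD_eq_getElem spanSets [] hl]
  refine ⟨i, n, hi, hn, ?_⟩
  rw [conjC, hci.1, hci.2, ← rep_word, ← rep_word, ← hspn, wordS_reverse, ← rep_mul, ← rep_mul, hxe, mul_assoc]

/-- the sets of transvections giving a class -/
def spanOf (j : ℕ) : List ℕ := (List.range 64).filter fun n => cl (spanCodes.getD n 0) == j

theorem mem_spanOf {n j : ℕ} (hn : n < 64) (h : cl (spanCodes.getD n 0) = j) : n ∈ spanOf j :=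
  List.mem_filter.2 ⟨List.mem_range.2 hn, beq_iff_eq.2 h⟩

theorem span_count : ∀ j : Fin 5, j.val ≠ 0 → j.val ≠ 4 → (spanOf j.val).length ≤ 21 := by decide +kernel

theorem spans_small (j : Fin 5) (h0 : j.val ≠ 0) (h4 : j.val ≠ 4) :
    ∃ L : List ℕ, (∀ n : ℕ, n < 64 → cl (spanCodes.getD n 0) = j.val → n ∈ L) ∧ L.length ≤ 21 :=
  Exists.intro (spanOf j.val) (And.intro (fun _ hn hj => mem_spanOf hn hj) (span_count j h0 h4))

theorem rep_span {n : ℕ} (hn : n < 64) : rep (prodS (spanSets.getD n [])) = spanCodes.getD n 0 := by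
  obtain ⟨-, hspan⟩ := code_values
  rw [beq_iff_eq] at hspan
  have hl : n < spanSets.length := by simpa [spanSets] using hn
  have key : ∀ n : Fin 64, ∀ c ∈ spanSets.getD n.val [], c < 64 := by decide +kernel
  rw [rep_prod (key ⟨n, hn⟩), hspan, List.getD_eq_getElem (spanSets.map prodC) 0 (by simpa using hl), List.getElem_map,
    List.getD_eq_getElem spanSets [] hl]

/-- A small centraliser pins the class. -/
theorem kind_four_of_cent {u : Sp} (hu : u * u = 1) (hu1 : u ≠ 1)
    (h : Nat.card (Subgroup.centralizer ({u} : Set Sp)) < 512) : kindS u = 4 := by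
  classical
  obtain ⟨h5, h0, -, -⟩ := kind_cases hu
  by_contra h4
  obtain ⟨j, hj⟩ : ∃ j, j = kindS u := ⟨_, rfl⟩
  rw [← hj] at h5 h0 h4
  have hj0 : j ≠ 0 := fun e => hu1 (h0 e)
  obtain ⟨L, hL, hlen⟩ := spans_small ⟨j, h5⟩ hj0 h4
  have hsub : ∀ x : MulAction.orbit (ConjAct Sp) u, ∃ p : Fin 135 × Fin L.length,
      x.1 = wordS (lagWords.getD p.1.val []) * prodS (spanSets.getD (L.get p.2) []) *
        (wordS (lagWords.getD p.1.val []))⁻¹ := by
    rintro ⟨_, k, rfl⟩
    obtain ⟨g, rfl⟩ := ConjAct.toConjAct.surjective k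
    have hk : ConjAct.toConjAct g • u = g * u * g⁻¹ := ConjAct.toConjAct_smul g u
    have hx : g * u * g⁻¹ * (g * u * g⁻¹) = 1 := by
      calc g * u * g⁻¹ * (g * u * g⁻¹) = g * (u * u) * g⁻¹ := by group
        _ = 1 := by rw [hu]; group
    obtain ⟨i, n, hi, hn, hxe⟩ := exists_span hx
    set c := wordS (lagWords.getD i [])
    have hxc : prodS (spanSets.getD n []) = c⁻¹ * (g * u * g⁻¹) * (c⁻¹)⁻¹ := by rw [hxe]; group
    have hnj : cl (spanCodes.getD n 0) = j := by
      rw [← rep_span hn]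
      show kindS _ = j
      rw [hxc, kindS_conj hx, kindS_conj hu, hj]
    have hmem : n ∈ L := hL n hn hnj
    obtain ⟨p, hp⟩ := List.get_of_mem hmem
    refine ⟨(⟨i, hi⟩, p), ?_⟩
    show ConjAct.toConjAct g • u = _
    rw [hk, hp]
    exact hxe
  choose f hf using hsub
  have hle : Nat.card (MulAction.orbit (ConjAct Sp) u) ≤ 135 * 21 := by
    refine (Nat.card_le_card_of_injective f fun a b e => Subtype.ext (by rw [hf a, hf b, e])).trans ?_
    rw [Nat.card_prod, Nat.card_fin, Nat.card_fin]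
    exact Nat.mul_le_mul le_rfl hlen
  have hst : Nat.card (MulAction.stabilizer (ConjAct Sp) u) ≤ Nat.card (Subgroup.centralizer ({u} : Set Sp)) := by
    refine Nat.card_le_card_of_injective
      (fun k => ⟨ConjAct.ofConjAct k.1, Subgroup.mem_centralizer_singleton_iff.2 ?_⟩)
      (fun a b e => Subtype.ext (ConjAct.ofConjAct.injective (Subtype.mk.injEq .. |>.mp e)))
    have := MulAction.mem_stabilizer_iff.1 k.2
    rw [ConjAct.smul_def] at this
    exact (mul_inv_eq_iff_eq_mul.1 this)
  have e := Subgroup.card_mul_index (MulAction.stabilizer (ConjAct Sp) u)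
  rw [MulAction.index_stabilizer, ← Nat.card_coe_set_eq, show Nat.card (ConjAct Sp) = Nat.card Sp from
    Nat.card_congr ConjAct.ofConjAct.toEquiv, card_Sp] at e
  have := Nat.mul_le_mul (hst.trans (Nat.le_sub_one_of_lt h)) hle
  rw [e] at this
  omega

end Cfsg.Lib.StdMTwelve.Six
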