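import Cfsg.Agent.StdMTwelve.InnerSpec

/-!
Centralisers in M12 of the involutions of its automorphism group.
-/

set_option autoImplicit false
set_option linter.style.haveILetI false
set_option maxRecDepth 4000

namespace Cfsg.Lib.StdMTwelve

open Cfsg Cfsg.Lib.PermCert Cfsg.Lib.Golay

theorem invA_facts : toP invA ∈ Spor.M12 ∧ toP invA * toP invA = 1 ∧ toP invA ≠ 1 := inner_facts invA_ok.1

theorem invB_facts : toP invB ∈ Spor.M12 ∧ toP invB * toP invB = 1 ∧ toP invB ≠ 1 := inner_facts invB_ok.1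

/-- Every involution is conjugate to a representative. -/
theorem isInv_cases {x : Equiv.Perm GolayPt} (hx : IsInv x) :
    ∃ g ∈ autM12, (x ∈ Spor.M12 ∧ (g * toP invA * g⁻¹ = x ∨ g * toP invB * g⁻¹ = x)) ∨
      (x ∉ Spor.M12 ∧ g * outInv * g⁻¹ = x) := by
  by_cases h : x ∈ Spor.M12
  · obtain ⟨g, hg, h'⟩ := inner_conj h hx.2.1 hx.2.2
    exact ⟨g, hg, Or.inl ⟨h, h'⟩⟩
  · obtain ⟨g, hg, h'⟩ := outer_conj hx.1 h hx.2.1
    exact ⟨g, hg, Or.inr ⟨h, h'⟩⟩

theorem card_cent_inner {x : Equiv.Perm GolayPt} (hx : x ∈ Spor.M12) (h2 : x * x = 1) (h1 : x ≠ 1) :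
    Nat.card (centM x) = 192 ∨ Nat.card (centM x) = 240 := by
  obtain ⟨g, hg, h | h⟩ := inner_conj hx h2 h1
  · rw [← h, card_centM_conj hg]; exact Or.inl centA_spec.1
  · rw [← h, card_centM_conj hg]; exact Or.inr centB_spec.1

theorem card_cent_outer {x : Equiv.Perm GolayPt} (hx : x ∈ autM12) (hn : x ∉ Spor.M12) (h2 : x * x = 1) :
    Nat.card (centM x) = 120 := by
  obtain ⟨g, hg, h⟩ := outer_conj hx hn h2
  rw [← h, card_centM_conj hg]; exact centT_spec.1

/-- The only nontrivial element centralising the centraliser of an inner involution is that involution. -/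
theorem eq_of_centralises {x y : Equiv.Perm GolayPt} (hx : x ∈ Spor.M12) (h2 : x * x = 1) (h1 : x ≠ 1)
    (hy : y ∈ centM x) (hy1 : y ≠ 1) (hall : ∀ c ∈ centM x, y * c = c * y) : y = x := by
  obtain ⟨g, hg, h | h⟩ := inner_conj hx h2 h1
  all_goals
    subst h
    have hy' := inv_conj_mem_centM hg hy
  · rcases centre_cases isListA invA_valid centreA_ok hy' (fun c hc => by
        have h' := hall _ (conj_mem_centM hg hc)
        calc g⁻¹ * y * g * c = g⁻¹ * (y * (g * c * g⁻¹)) * g := by group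
          _ = g⁻¹ * ((g * c * g⁻¹) * y) * g := by rw [h']
          _ = c * (g⁻¹ * y * g) := by group) with e | e
    · exact absurd (by simpa [mul_assoc, inv_mul_eq_one] using congrArg (fun z => g * z * g⁻¹) e) hy1
    · rw [← e]; group
  · rcases centre_cases isListB invB_valid centreB_ok hy' (fun c hc => by
        have h' := hall _ (conj_mem_centM hg hc)
        calc g⁻¹ * y * g * c = g⁻¹ * (y * (g * c * g⁻¹)) * g := by group
          _ = g⁻¹ * ((g * c * g⁻¹) * y) * g := by rw [h']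
          _ = c * (g⁻¹ * y * g) := by group) with e | e
    · exact absurd (by simpa [mul_assoc, inv_mul_eq_one] using congrArg (fun z => g * z * g⁻¹) e) hy1
    · rw [← e]; group

/-- A centraliser of an inner involution lies in no other. -/
theorem inner_eq_of_cent_le {x y : Equiv.Perm GolayPt} (hx : x ∈ Spor.M12) (hx2 : x * x = 1) (hx1 : x ≠ 1)
    (hy : y ∈ Spor.M12) (hy2 : y * y = 1) (hy1 : y ≠ 1) (hle : centM x ≤ centM y) : x = y := by
  have heq : centM x = centM y := by
    refine Subgroup.eq_of_le_of_card_ge hle ?_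
    have hd := Subgroup.card_dvd_of_le hle
    rcases card_cent_inner hx hx2 hx1 with a | a <;> rcases card_cent_inner hy hy2 hy1 with b | b <;>
      rw [a, b] at hd ⊢ <;> revert hd <;> decide
  refine (eq_of_centralises hx hx2 hx1 ?_ hy1 fun c hc => ?_).symm
  · rw [heq]; exact mem_centM.mpr ⟨hy, rfl⟩
  · rw [heq] at hc
    exact ((mem_centM.mp hc).2).symm

/-- An outer centraliser lies only in an inner centraliser of order 240. -/
theorem card_of_outer_le {x y : Equiv.Perm GolayPt} (hx : x ∈ autM12) (hn : x ∉ Spor.M12) (hx2 : x * x = 1)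
    (hy : y ∈ Spor.M12) (hy2 : y * y = 1) (hy1 : y ≠ 1) (hle : centM x ≤ centM y) : Nat.card (centM y) = 240 := by
  have hd := Subgroup.card_dvd_of_le hle
  rw [card_cent_outer hx hn hx2] at hd
  rcases card_cent_inner hy hy2 hy1 with b | b <;> rw [b] at hd ⊢
  revert hd; decide

theorem not_inner_le_outer {x y : Equiv.Perm GolayPt} (hx : x ∈ Spor.M12) (hx2 : x * x = 1) (hx1 : x ≠ 1)
    (hy : y ∈ autM12) (hn : y ∉ Spor.M12) (hy2 : y * y = 1) : ¬ centM x ≤ centM y := fun hle => by
  have hd := Subgroup.card_dvd_of_le hle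
  rw [card_cent_outer hy hn hy2] at hd
  rcases card_cent_inner hx hx2 hx1 with b | b <;> rw [b] at hd <;> revert hd <;> decide

/-- An involution centraliser has no nontrivial normal subgroup of odd order. -/
theorem odd_normal_eq_one {x : Equiv.Perm GolayPt} (hx : IsInv x) {Q : Subgroup (Equiv.Perm GolayPt)}
    (hQ : Q ≤ centM x) (hnorm : ∀ c ∈ centM x, ∀ q ∈ Q, c * q * c⁻¹ ∈ Q) (hodd : Odd (Nat.card Q))
    {y : Equiv.Perm GolayPt} (hy : y ∈ Q) : y = 1 := by
  obtain ⟨g, hg, h⟩ := isInv_cases hx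
  by_contra hy1
  have key : ∀ (z : Equiv.Perm GolayPt) (C : List PP) (W : List (List (Bool × ℕ) × ℕ)), g * z * g⁻¹ = x →
      IsList C z → evenOK C W = true → False := by
    intro z C W hz hC hW
    have hy' : g⁻¹ * y * g ∈ centM z := inv_conj_mem_centM hg (hz ▸ hQ hy)
    obtain ⟨q, hq, hq2, hq1⟩ := exists_invol_closure hC hW hy' fun e => hy1 (by
      simpa [mul_assoc, inv_mul_eq_one] using congrArg (fun a => g * a * g⁻¹) e)
    have hle : Subgroup.closure (conjSet (centM z) (g⁻¹ * y * g)) ≤ Q.comap (MulAut.conj g).toMonoidHom := by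
      rw [Subgroup.closure_le]
      rintro _ ⟨c, hc, rfl⟩
      rw [SetLike.mem_coe, Subgroup.mem_comap]
      show g * (c * (g⁻¹ * y * g) * c⁻¹) * g⁻¹ ∈ Q
      have := hnorm _ (hz ▸ conj_mem_centM hg hc) y hy
      convert this using 1
      group
    have hqQ : g * q * g⁻¹ ∈ Q := hle hq
    have ho : orderOf (⟨_, hqQ⟩ : Q) = 2 := orderOf_eq_prime
      (Subtype.ext (by rw [SubmonoidClass.coe_pow, sq]; show g * q * g⁻¹ * (g * q * g⁻¹) = 1; rw [conj_mul, hq2]; simp))
      fun e => hq1 (by simpa [inv_mul_eq_one] using conj_eq_one_iff.mp (congrArg Subtype.val e))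
    exact Nat.not_even_iff_odd.mpr hodd (even_iff_two_dvd.mpr (ho ▸ orderOf_dvd_natCard (⟨_, hqQ⟩ : Q)))
  rcases h with ⟨-, h | h⟩ | ⟨-, h⟩
  · exact key _ _ _ h isListA evenA_ok
  · exact key _ _ _ h isListB evenB_ok
  · exact key _ _ _ h isListT evenT_ok

/-- A square root of an involution moves something in the centraliser of that involution. -/
theorem sqrt_moves {x y : Equiv.Perm GolayPt} (hy : y ∈ autM12) (h2 : y * y = x) (hx2 : x * x = 1) (hx1 : x ≠ 1) :
    ∃ c ∈ centM x, c * y ≠ y * c := by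
  have hxm : x ∈ Spor.M12 := by
    rw [← h2]
    by_cases hm : y ∈ Spor.M12
    · exact mul_mem hm hm
    · exact mul_mem_M12 hy hy hm hm
  obtain ⟨g, hg, h | h⟩ := inner_conj hxm hx2 hx1
  all_goals
    have hy' : g⁻¹ * y * g ∈ autM12 := mul_mem (mul_mem (inv_mem hg) hy) hg
    have h2' : ∀ z, g * z * g⁻¹ = x → (g⁻¹ * y * g) * (g⁻¹ * y * g) = z := fun z hz => by
      calc (g⁻¹ * y * g) * (g⁻¹ * y * g) = g⁻¹ * (y * y) * g := by group
        _ = z := by rw [h2, ← hz]; group
  · obtain ⟨c, hc, hne⟩ := root_moves invA_valid isListA (valid_of_outer invA_ok.2) (outer_facts invA_valid invA_ok.2)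
      rootA_ok hy' (h2' _ h)
    refine ⟨g * c * g⁻¹, h ▸ conj_mem_centM hg hc, fun e => hne ?_⟩
    calc c * (g⁻¹ * y * g) = g⁻¹ * (g * c * g⁻¹ * y) * g := by group
      _ = g⁻¹ * (y * (g * c * g⁻¹)) * g := by rw [e]
      _ = g⁻¹ * y * g * c := by group
  · obtain ⟨c, hc, hne⟩ := root_moves invB_valid isListB (valid_of_outer invB_ok.2) (outer_facts invB_valid invB_ok.2)
      rootB_ok hy' (h2' _ h)
    refine ⟨g * c * g⁻¹, h ▸ conj_mem_centM hg hc, fun e => hne ?_⟩
    calc c * (g⁻¹ * y * g) = g⁻¹ * (g * c * g⁻¹ * y) * g := by group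
      _ = g⁻¹ * (y * (g * c * g⁻¹)) * g := by rw [e]
      _ = g⁻¹ * y * g * c := by group
where
  valid_of_outer {o v : PP} (h : outerOK o v = true) : valid 24 o = true := by
    simp only [outerOK, Bool.and_eq_true] at h
    exact h.1.1.1

/-- A square root of an inner involution has conjugates generating another inner involution, or centralises no
element of order three of the centraliser. -/
theorem sqrt_cases {x y : Equiv.Perm GolayPt} (hy : y ∈ autM12) (h2 : y * y = x) (hx2 : x * x = 1) (hx1 : x ≠ 1) :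
    (∃ q ∈ Subgroup.closure (conjSet (centM x) y), q ∈ Spor.M12 ∧ q * q = 1 ∧ q ≠ 1 ∧ q ≠ x) ∨
      ∀ c ∈ centM x, c * c * c = 1 → c * y = y * c → c = 1 := by
  have hxm : x ∈ Spor.M12 := by
    rw [← h2]
    by_cases hm : y ∈ Spor.M12
    · exact mul_mem hm hm
    · exact mul_mem_M12 hy hy hm hm
  obtain ⟨g, hg, h⟩ := inner_conj hxm hx2 hx1
  have hy' : g⁻¹ * y * g ∈ autM12 := mul_mem (mul_mem (inv_mem hg) hy) hg
  have h2' : ∀ z, g * z * g⁻¹ = x → (g⁻¹ * y * g) * (g⁻¹ * y * g) = z := fun z hz => by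
    calc (g⁻¹ * y * g) * (g⁻¹ * y * g) = g⁻¹ * (y * y) * g := by group
      _ = z := by rw [h2, ← hz]; group
  have key : ∀ z, g * z * g⁻¹ = x →
      ((∃ q ∈ Subgroup.closure (conjSet (centM z) (g⁻¹ * y * g)), q ∈ Spor.M12 ∧ q * q = 1 ∧ q ≠ 1 ∧ q ≠ z) ∨
        ∀ c ∈ centM z, c * c * c = 1 → c * (g⁻¹ * y * g) = g⁻¹ * y * g * c → c = 1) →
      ((∃ q ∈ Subgroup.closure (conjSet (centM x) y), q ∈ Spor.M12 ∧ q * q = 1 ∧ q ≠ 1 ∧ q ≠ x) ∨
        ∀ c ∈ centM x, c * c * c = 1 → c * y = y * c → c = 1) := by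
    intro z hz hcase
    rcases hcase with ⟨q, hq, hqm, hq2, hq1, hqz⟩ | hno
    · refine Or.inl ⟨g * q * g⁻¹, ?_, conj_mem_M12 hg hqm, by rw [conj_mul, hq2]; simp,
        fun e => hq1 (conj_eq_one_iff.mp e), fun e => hqz (by
          rw [← hz] at e
          simpa using congrArg (fun a => g⁻¹ * a * g) e)⟩
      have hle : Subgroup.closure (conjSet (centM z) (g⁻¹ * y * g)) ≤
          (Subgroup.closure (conjSet (centM x) y)).comap (MulAut.conj g).toMonoidHom := by
        rw [Subgroup.closure_le]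
        rintro _ ⟨c, hc, rfl⟩
        rw [SetLike.mem_coe, Subgroup.mem_comap]
        refine Subgroup.subset_closure ⟨g * c * g⁻¹, hz ▸ conj_mem_centM hg hc, ?_⟩
        show g * (c * (g⁻¹ * y * g) * c⁻¹) * g⁻¹ = _
        group
      exact hle hq
    · refine Or.inr fun c hc h3 hcy => ?_
      have := hno (g⁻¹ * c * g) (inv_conj_mem_centM hg (hz.symm ▸ hc)) (by
        calc g⁻¹ * c * g * (g⁻¹ * c * g) * (g⁻¹ * c * g) = g⁻¹ * (c * c * c) * g := by group
          _ = 1 := by rw [h3]; simp) (by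
        calc g⁻¹ * c * g * (g⁻¹ * y * g) = g⁻¹ * (c * y) * g := by group
          _ = g⁻¹ * y * g * (g⁻¹ * c * g) := by rw [hcy]; group)
      simpa [mul_assoc, inv_mul_eq_one] using congrArg (fun a => g * a * g⁻¹) this
  rcases h with h | h
  · exact key _ h (four_cases invA_valid isListA (sqrt_moves.valid_of_outer invA_ok.2)
      (outer_facts invA_valid invA_ok.2) fourA_ok hy' (h2' _ h))
  · exact key _ h (four_cases invB_valid isListB (sqrt_moves.valid_of_outer invB_ok.2)
      (outer_facts invB_valid invB_ok.2) fourB_ok hy' (h2' _ h))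

/-- The centraliser of an inner involution has elements of order three generating another involution. -/
theorem three_gen_inner {x : Equiv.Perm GolayPt} (hx : x ∈ Spor.M12) (hx2 : x * x = 1) (hx1 : x ≠ 1) :
    ∃ a ∈ centM x, ∃ b ∈ centM x, a * a * a = 1 ∧ b * b * b = 1 ∧
      ∃ q ∈ Subgroup.closure ({a, b} : Set (Equiv.Perm GolayPt)), q * q = 1 ∧ q ≠ 1 ∧ q ≠ x := by
  obtain ⟨g, hg, h⟩ := inner_conj hx hx2 hx1
  have key : ∀ z, g * z * g⁻¹ = x →
      (∃ a ∈ centM z, ∃ b ∈ centM z, a * a * a = 1 ∧ b * b * b = 1 ∧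
        ∃ q ∈ Subgroup.closure ({a, b} : Set (Equiv.Perm GolayPt)), q * q = 1 ∧ q ≠ 1 ∧ q ≠ z) →
      ∃ a ∈ centM x, ∃ b ∈ centM x, a * a * a = 1 ∧ b * b * b = 1 ∧
        ∃ q ∈ Subgroup.closure ({a, b} : Set (Equiv.Perm GolayPt)), q * q = 1 ∧ q ≠ 1 ∧ q ≠ x := by
    rintro z hz ⟨a, ha, b, hb, ha3, hb3, q, hq, hq2, hq1, hqz⟩
    refine ⟨_, hz ▸ conj_mem_centM hg ha, _, hz ▸ conj_mem_centM hg hb, by rw [conj_mul, conj_mul, ha3]; simp,
      by rw [conj_mul, conj_mul, hb3]; simp, g * q * g⁻¹, ?_, by rw [conj_mul, hq2]; simp,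
      fun e => hq1 (conj_eq_one_iff.mp e), fun e => hqz (by
        rw [← hz] at e
        simpa using congrArg (fun a => g⁻¹ * a * g) e)⟩
    have hle : Subgroup.closure ({a, b} : Set (Equiv.Perm GolayPt)) ≤
        (Subgroup.closure ({g * a * g⁻¹, g * b * g⁻¹} : Set (Equiv.Perm GolayPt))).comap
          (MulAut.conj g).toMonoidHom := by
      rw [Subgroup.closure_le]
      rintro _ (rfl | rfl)
      · exact Subgroup.subset_closure (Or.inl rfl)
      · exact Subgroup.subset_closure (Or.inr rfl)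
    exact hle hq
  rcases h with h | h
  · exact key _ h (three_gen isListA invA_valid threeA_ok)
  · exact key _ h (three_gen isListB invB_valid threeB_ok)

/-- The centraliser of an inner involution is maximal. -/
theorem cent_maximal {x : Equiv.Perm GolayPt} (hx : x ∈ Spor.M12) (hx2 : x * x = 1) (hx1 : x ≠ 1)
    {S : Subgroup (Equiv.Perm GolayPt)} (hS : S ≤ Spor.M12) (hle : centM x ≤ S) :
    S = centM x ∨ S = Spor.M12 := by
  obtain ⟨g, hg, h⟩ := inner_conj hx hx2 hx1
  have key : ∀ z, g * z * g⁻¹ = x →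
      (S.comap (MulAut.conj g).toMonoidHom = centM z ∨ S.comap (MulAut.conj g).toMonoidHom = Spor.M12) →
      S = centM x ∨ S = Spor.M12 := by
    intro z hz hcase
    have e : (S.comap (MulAut.conj g).toMonoidHom).map (MulAut.conj g).toMonoidHom = S :=
      Subgroup.map_comap_eq_self_of_surjective (MulAut.conj g).surjective S
    rcases hcase with e1 | e1 <;> rw [e1] at e
    · exact Or.inl (by rw [← e, ← hz, centM_conj hg])
    · refine Or.inr (le_antisymm hS fun m hm => ?_)
      rw [← e]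
      exact ⟨g⁻¹ * m * g, by simpa using conj_mem_M12 (inv_mem hg) hm, by simp [mul_assoc]⟩
  have hS' : S.comap (MulAut.conj g).toMonoidHom ≤ Spor.M12 := fun m hm => by
    have := conj_mem_M12 (inv_mem hg) (hS hm)
    simpa [mul_assoc] using this
  have hle' : ∀ z, g * z * g⁻¹ = x → centM z ≤ S.comap (MulAut.conj g).toMonoidHom := fun z hz c hc => by
    have := hle (hz ▸ conj_mem_centM hg hc)
    simpa using this
  rcases h with h | h
  · exact key _ h (maximal_rep invA_valid isListA treeA_closed cosA_ok genWA_ok _ hS' (hle' _ h))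
  · exact key _ h (maximal_rep invB_valid isListB treeB_closed cosB_ok genWB_ok _ hS' (hle' _ h))

/-- A centraliser of order 240 has an element of order four whose square is not the involution. -/
theorem order_four {x : Equiv.Perm GolayPt} (hx : x ∈ Spor.M12) (hx2 : x * x = 1) (hx1 : x ≠ 1)
    (hcard : Nat.card (centM x) = 240) : ∃ c ∈ centM x, c * c * (c * c) = 1 ∧ c * c ≠ 1 ∧ c * c ≠ x := by
  obtain ⟨g, hg, h | h⟩ := inner_conj hx hx2 hx1
  · rw [← h, card_centM_conj hg, centA_spec.1] at hcard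
    norm_num at hcard
  have := fourB_elem
  split at this
  · next c hc =>
    simp only [Bool.and_eq_true, Bool.not_eq_true'] at this
    obtain ⟨⟨h4, h1⟩, hv⟩ := this
    have hcm := isListB.1 c (List.mem_of_getElem? hc)
    have r := rep_toP hcm.1
    have e4 : toP c * toP c * (toP c * toP c) = 1 := (((r.mul r).mul (r.mul r)).eq_iff rep_one).mpr h4
    refine ⟨_, h ▸ conj_mem_centM hg hcm.2, ?_, fun e => ?_, fun e => ?_⟩
    · rw [conj_mul, conj_mul, e4]; simp
    · rw [conj_mul] at e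
      exact absurd (((r.mul r).eq_iff rep_one).mp (conj_eq_one_iff.mp e)) (by simpa using h1)
    · rw [conj_mul, ← h] at e
      have e' : toP c * toP c = toP invB := by simpa using congrArg (fun a => g⁻¹ * a * g) e
      exact absurd (((r.mul r).eq_iff (rep_toP invB_valid)).mp e') (by simpa using hv)
  · cases this

/-- The centraliser of an outer involution in the automorphism group has exponent dividing thirty. -/
theorem exponent_outer {x a : Equiv.Perm GolayPt} (hx : x ∈ autM12) (hn : x ∉ Spor.M12) (hx2 : x * x = 1)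
    (ha : a ∈ autM12) (hax : a * x = x * a) : a ^ 30 = 1 := by
  obtain ⟨g, hg, h⟩ := outer_conj hx hn hx2
  have ha' : g⁻¹ * a * g ∈ autM12 := mul_mem (mul_mem (inv_mem hg) ha) hg
  have hc' : g⁻¹ * a * g * outInv = outInv * (g⁻¹ * a * g) := by
    rw [← h] at hax
    calc g⁻¹ * a * g * outInv = g⁻¹ * (a * (g * outInv * g⁻¹)) * g := by group
      _ = g⁻¹ * (g * outInv * g⁻¹ * a) * g := by rw [hax]
      _ = outInv * (g⁻¹ * a * g) := by group
  obtain ⟨w, hw, hr, -⟩ := word_cases isListT outX_facts.1 ⟨outInv_mem, outInv_notMem, rfl⟩ ha' hc'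
  have h30 := List.all_eq_true.mp exponentT_ok w hw
  have e : (g⁻¹ * a * g) ^ 30 = 1 := ((rep_powWord hr 30).eq_iff rep_one).mpr h30
  rw [show g⁻¹ * a * g = g⁻¹ * a * (g⁻¹)⁻¹ by rw [inv_inv], conj_pow] at e
  exact conj_eq_one_iff.mp e

/-- An outer involution, the central involution of its centraliser, and an element shifting one by the other. -/
theorem outer_shift {x : Equiv.Perm GolayPt} (hx : x ∈ autM12) (hn : x ∉ Spor.M12) (hx2 : x * x = 1) :
    ∃ i s, i ∈ centM x ∧ i * i = 1 ∧ i ≠ 1 ∧ s ∈ Spor.M12 ∧ s * i = i * s ∧ s * x * s⁻¹ = x * i ∧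
      (∀ c ∈ centM x, c * i = i * c) ∧
      ∀ z ∈ centM x, (∀ c ∈ centM x, z * c = c * z) → z = 1 ∨ z = i := by
  obtain ⟨g, hg, h⟩ := outer_conj hx hn hx2
  obtain ⟨hci, hix, hsv, hss, hsi, hsx⟩ := centI_ok
  have hiv := valid_of_innerOK hci
  obtain ⟨hi, hi2, hi1⟩ := inner_facts hci
  have ri := rep_toP hiv
  have rs := rep_toP hsv
  have hs : toP moveS ∈ Spor.M12 := M12_eq_grp ▸ mem_of_sift cgAutM12_ok.1 hsv hss
  have eix : toP centI * outInv = outInv * toP centI := ((ri.mul rep_outInv).eq_iff (rep_outInv.mul ri)).mpr hix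
  have esi : toP moveS * toP centI = toP centI * toP moveS := ((rs.mul ri).eq_iff (ri.mul rs)).mpr hsi
  have esx : toP moveS * outInv = outInv * toP centI * toP moveS :=
    ((rs.mul rep_outInv).eq_iff ((rep_outInv.mul ri).mul rs)).mpr hsx
  refine ⟨g * toP centI * g⁻¹, g * toP moveS * g⁻¹, h ▸ conj_mem_centM hg (mem_centM.mpr ⟨hi, eix⟩),
    by rw [conj_mul, hi2]; simp, fun e => hi1 (conj_eq_one_iff.mp e), conj_mem_M12 hg hs,
    by rw [conj_mul, conj_mul, esi], ?_, fun c hc => ?_, fun z hz hall => ?_⟩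
  · rw [← h]
    calc g * toP moveS * g⁻¹ * (g * outInv * g⁻¹) * (g * toP moveS * g⁻¹)⁻¹
        = g * (toP moveS * outInv) * (toP moveS)⁻¹ * g⁻¹ := by group
      _ = _ := by rw [esx]; group
  · have hc' := inv_conj_mem_centM hg (h.symm ▸ hc)
    obtain ⟨d, hd, hde⟩ := isListT.2 _ hc'
    have h1 := List.all_eq_true.mp centreT_ok.2 d hd
    have hdv := rep_toP (isListT.1 d hd).1
    have e : toP d * toP centI = toP centI * toP d := ((hdv.mul ri).eq_iff (ri.mul hdv)).mpr h1
    rw [hde] at e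
    calc c * (g * toP centI * g⁻¹) = g * (g⁻¹ * c * g * toP centI) * g⁻¹ := by group
      _ = g * (toP centI * (g⁻¹ * c * g)) * g⁻¹ := by rw [e]
      _ = g * toP centI * g⁻¹ * c := by group
  · rcases centre_cases isListT hiv centreT_ok.1 (inv_conj_mem_centM hg (h.symm ▸ hz)) (fun c hc => by
        have h' := hall _ (h ▸ conj_mem_centM hg hc)
        calc g⁻¹ * z * g * c = g⁻¹ * (z * (g * c * g⁻¹)) * g := by group
          _ = g⁻¹ * ((g * c * g⁻¹) * z) * g := by rw [h']
          _ = c * (g⁻¹ * z * g) := by group) with e | e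
    · exact Or.inl (by simpa [mul_assoc, inv_mul_eq_one] using congrArg (fun a => g * a * g⁻¹) e)
    · exact Or.inr (by rw [← e]; group)

end Cfsg.Lib.StdMTwelve
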