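import Cfsg.Agent.StdMTwelve.InnerDefs

/-!
The certificates for the centralisers of involutions in the automorphism group of M12.
-/

set_option autoImplicit false
set_option maxRecDepth 100000

namespace Cfsg.Lib.StdMTwelve

open Cfsg.Lib.PermCert Cfsg.Lib.Golay

theorem invA_ok : innerOK invA = true ∧ outerOK outA invA = true := by decide +kernel

theorem invB_ok : innerOK invB = true ∧ outerOK outB invB = true := by decide +kernel

theorem centA_ok : listOK centA invA 192 = true := by decide +kernel

theorem centB_ok : listOK centB invB 240 = true := by decide +kernel

theorem centT_ok : listOK centT outX 120 = true := by decide +kernel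

theorem evenA_ok : evenOK centA evenWA = true := by decide +kernel

theorem evenB_ok : evenOK centB evenWB = true := by decide +kernel

theorem evenT_ok : evenOK centT evenWT = true := by decide +kernel

theorem centreA_ok : centreOK centA invA = true := by decide +kernel

theorem centreB_ok : centreOK centB invB = true := by decide +kernel

theorem centreT_ok : centreOK centT centI = true ∧
    (centT.all fun c => FusionCert.same [c, centI] [centI, c]) = true := by decide +kernel

theorem rootA_ok : rootOK centA (dWords centA outA) invA = true := by decide +kernel

theorem rootB_ok : rootOK centB (dWords centB outB) invB = true := by decide +kernel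

theorem fourA_ok : fourOK centA (dWords centA outA) invA fourWA = true := by decide +kernel

theorem fourB_ok : fourOK centB (dWords centB outB) invB fourWB = true := by decide +kernel

theorem threeA_ok : threeOK centA invA threeA = true := by decide +kernel

theorem threeB_ok : threeOK centB invB threeB = true := by decide +kernel

theorem treeA_closed :
    closedOK cjActP (cgDodPair.gens.map (·.1)) (wCode [invA]) treeA = true ∧ (stVals treeA).length = 495 := by
  decide +kernel

theorem treeB_closed :
    closedOK cjActP (cgDodPair.gens.map (·.1)) (wCode [invB]) treeB = true ∧ (stVals treeB).length = 396 := by
  decide +kernel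

theorem innerCover : ((FusionCert.elems cgAutSylM12.chain).all fun w =>
    !FusionCert.same (w ++ w) [] || FusionCert.same w [] || (stFind treeA (wCode w)).isSome ||
      (stFind treeB (wCode w)).isSome) = true := by decide +kernel

theorem cosA_ok : cosOK centA invA treeA cosA movesA = true := by decide +kernel

theorem cosB_ok : cosOK centB invB treeB cosB movesB = true := by decide +kernel

theorem genWA_ok : genWOK centA movesA gensWA = true := by decide +kernel

theorem genWB_ok : genWOK centB movesB gensWB = true := by decide +kernel

theorem exponentT_ok :
    ((dWords centT outX).all fun y => FusionCert.same (powWord y 30) []) = true := by decide +kernel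

theorem centI_ok : innerOK centI = true ∧ FusionCert.same [centI, outX] [outX, centI] = true ∧
    valid 24 moveS = true ∧ sift 24 cgAutM12.chain [moveS] = true ∧
    FusionCert.same [moveS, centI] [centI, moveS] = true ∧
    FusionCert.same [moveS, outX] [outX, centI, moveS] = true := by decide +kernel

theorem fourB_elem : (match centB[fourB]? with
    | some c => FusionCert.same [c, c, c, c] [] && !FusionCert.same [c, c] [] && !FusionCert.same [c, c] [invB]
    | none => false) = true := by decide +kernel

end Cfsg.Lib.StdMTwelve
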