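import Cfsg.Agent.StdMTwelve.AutModel
import Cfsg.Agent.StdMTwelve.InnerCert

/-!
Turning the lists of the certificates into centralisers in M12.
-/

set_option autoImplicit false
set_option linter.style.haveILetI false
set_option maxRecDepth 4000

namespace Cfsg.Lib.StdMTwelve

open Cfsg Cfsg.Lib.PermCert Cfsg.Lib.Golay MulAction
open scoped Pointwise

/-- The centraliser in M12 of a permutation. -/
def centM (x : Equiv.Perm GolayPt) : Subgroup (Equiv.Perm GolayPt) :=
  Spor.M12 ⊓ Subgroup.centralizer {x}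

/-- An involution of the automorphism group. -/
def IsInv (x : Equiv.Perm GolayPt) : Prop := x ∈ autM12 ∧ x * x = 1 ∧ x ≠ 1

theorem mem_centM {x c : Equiv.Perm GolayPt} : c ∈ centM x ↔ c ∈ Spor.M12 ∧ c * x = x * c := by
  rw [centM, Subgroup.mem_inf, Subgroup.mem_centralizer_singleton_iff]

theorem centM_le (x : Equiv.Perm GolayPt) : centM x ≤ Spor.M12 := inf_le_left

theorem conj_mem_centM {g x c : Equiv.Perm GolayPt} (hg : g ∈ autM12) (hc : c ∈ centM x) :
    g * c * g⁻¹ ∈ centM (g * x * g⁻¹) := by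
  rw [mem_centM] at hc ⊢
  exact ⟨conj_mem_M12 hg hc.1, by
    rw [conj_mul, conj_mul, hc.2]⟩

theorem inv_conj_mem_centM {g x c : Equiv.Perm GolayPt} (hg : g ∈ autM12) (hc : c ∈ centM (g * x * g⁻¹)) :
    g⁻¹ * c * g ∈ centM x := by
  have h := conj_mem_centM (inv_mem hg) hc
  simpa [mul_assoc] using h

theorem centM_conj {g x : Equiv.Perm GolayPt} (hg : g ∈ autM12) :
    centM (g * x * g⁻¹) = (centM x).map (MulAut.conj g).toMonoidHom := by
  ext c
  rw [Subgroup.mem_map]
  constructor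
  · exact fun hc => ⟨g⁻¹ * c * g, inv_conj_mem_centM hg hc, by simp [mul_assoc]⟩
  · rintro ⟨d, hd, rfl⟩
    simpa using conj_mem_centM hg hd

theorem card_centM_conj {g x : Equiv.Perm GolayPt} (hg : g ∈ autM12) :
    Nat.card (centM (g * x * g⁻¹)) = Nat.card (centM x) := by
  rw [centM_conj hg]
  exact (Nat.card_congr (Subgroup.equivMapOfInjective _ _ (MulAut.conj g).injective).toEquiv).symm

theorem valid_of_innerOK {v : PP} (h : innerOK v = true) : valid 24 v = true := by
  simp only [innerOK, Bool.and_eq_true] at h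
  exact h.1.1.1

theorem inner_facts {v : PP} (h : innerOK v = true) :
    toP v ∈ Spor.M12 ∧ toP v * toP v = 1 ∧ toP v ≠ 1 := by
  simp only [innerOK, Bool.and_eq_true, Bool.not_eq_true'] at h
  obtain ⟨⟨⟨hv, hs⟩, h2⟩, h1⟩ := h
  refine ⟨M12_eq_grp ▸ mem_of_sift cgAutM12_ok.1 hv hs, ((rep_toP hv).mul (rep_toP hv)).eq_iff rep_one |>.mpr h2,
    fun e => ?_⟩
  rw [((rep_toP hv).eq_iff rep_one).mp e] at h1
  cases h1

theorem outer_facts {o v : PP} (hv : valid 24 v = true) (h : outerOK o v = true) :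
    toP o ∈ autM12 ∧ toP o ∉ Spor.M12 ∧ toP o * toP v = toP v * toP o := by
  simp only [outerOK, Bool.and_eq_true, Bool.not_eq_true'] at h
  obtain ⟨⟨⟨ho, hs⟩, hc⟩, hd⟩ := h
  refine ⟨mem_of_sift cgDodPair_ok ho hs, fun hm => ?_, ((rep_toP ho).mul (rep_toP hv)).eq_iff
    ((rep_toP hv).mul (rep_toP ho)) |>.mpr hc⟩
  have h2 : toP o • Spor.squareDodecad = Spor.squareDodecad := mem_stabilizer_iff.mp hm.2
  have h3 := mk_smul ho Spor.squareDodecad
  rw [h2, squareDodecad_eq, mk_pts (by norm_num)] at h3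
  rw [show img o dMask = dMask from h3.symm, Nat.beq_refl] at hd
  cases hd

theorem listOK_spec {C : List PP} {v : PP} {n : ℕ} (hv : valid 24 v = true) (h : listOK C v n = true) :
    (∀ c ∈ C, valid 24 c = true ∧ toP c ∈ centM (toP v)) ∧ (C.map toP).Nodup ∧ C.length = n := by
  simp only [listOK, Bool.and_eq_true, List.all_eq_true] at h
  obtain ⟨⟨hC, hinc⟩, hlen⟩ := h
  have hval : ∀ c ∈ C, valid 24 c = true := fun c hc => (hC c hc).1.1
  refine ⟨fun c hc => ⟨hval c hc, mem_centM.mpr ⟨M12_eq_grp ▸ mem_of_sift cgAutM12_ok.1 (hC c hc).1.1 (hC c hc).1.2,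
    ((rep_toP (hC c hc).1.1).mul (rep_toP hv)).eq_iff ((rep_toP hv).mul (rep_toP (hC c hc).1.1)) |>.mpr (hC c hc).2⟩⟩,
    ?_, Nat.eq_of_beq_eq_true hlen⟩
  have hnd : (C.map fun c => wCode [c]).Nodup :=
    (pairwise_of_strictInc hinc).imp fun hab => ne_of_lt hab
  have e : (C.map fun c => wCode [c]) = (C.map toP).map (fun x => cjEnc (CJ.mk x)) := by
    rw [List.map_map]
    exact List.map_congr_left fun c hc => (Rep.cjEnc_eq (rep_toP (hval c hc))).symm
  rw [e] at hnd
  exact hnd.of_map _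

/-- A list with the size of the centraliser is the centraliser. -/
theorem centM_eq_list {C : List PP} {v : PP} {n : ℕ} (hv : valid 24 v = true) (h : listOK C v n = true)
    (hcard : Nat.card (centM (toP v)) ≤ n) :
    Nat.card (centM (toP v)) = n ∧ ∀ x, x ∈ centM (toP v) → ∃ c ∈ C, toP c = x := by
  classical
  obtain ⟨hmem, hnd, hlen⟩ := listOK_spec hv h
  let T : Finset (Equiv.Perm GolayPt) := (C.map toP).toFinset
  have hT : T.card = n := by rw [List.toFinset_card_of_nodup hnd, List.length_map, hlen]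
  have hsub : (T : Set (Equiv.Perm GolayPt)) ⊆ (centM (toP v) : Set (Equiv.Perm GolayPt)) := by
    intro x hx
    obtain ⟨c, hc, rfl⟩ := List.mem_map.mp (List.mem_toFinset.mp hx)
    exact (hmem c hc).2
  have hfin : (centM (toP v) : Set (Equiv.Perm GolayPt)).Finite := Set.toFinite _
  have hle : n ≤ Nat.card (centM (toP v)) := by
    rw [← hT, ← Set.ncard_coe_finset, ← Nat.card_coe_set_eq]
    exact Set.ncard_le_ncard hsub hfin
  have heq : (T : Set (Equiv.Perm GolayPt)) = (centM (toP v) : Set (Equiv.Perm GolayPt)) := by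
    refine Set.eq_of_subset_of_ncard_le hsub ?_ hfin
    rw [Set.ncard_coe_finset, hT]
    rw [← Nat.card_coe_set_eq]
    exact hcard
  refine ⟨le_antisymm hcard hle, fun x hx => ?_⟩
  have hxT : x ∈ (T : Set (Equiv.Perm GolayPt)) := heq ▸ hx
  exact List.mem_map.mp (List.mem_toFinset.mp hxT)

/-- The centraliser from the orbit in the automorphism group and an outer element in it. -/
theorem card_centM_le {o x : Equiv.Perm GolayPt} (ho : o ∈ autM12) (hn : o ∉ Spor.M12) (hc : o * x = x * o)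
    {N n : ℕ} (horb : (orbit autM12 (CJ.mk x)).ncard = N) (hNn : N * (2 * n) = 190080) :
    Nat.card (centM x) ≤ n := by
  set C := autM12 ⊓ Subgroup.centralizer ({x} : Set (Equiv.Perm GolayPt))
  have hN : 0 < N := Nat.pos_of_ne_zero fun e => by rw [e] at hNn; simp at hNn
  have hC : Nat.card C = 2 * n := by
    have h := Subgroup.index_mul_card (stabilizer autM12 (CJ.mk x))
    rw [index_stabilizer, horb, card_autM12, ← hNn] at h
    have e : (stabilizer autM12 (CJ.mk x)).map autM12.subtype = C := by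
      ext a
      simp only [Subgroup.mem_map, mem_stabilizer_iff, C, Subgroup.mem_inf,
        Subgroup.mem_centralizer_singleton_iff, Subgroup.subtype_apply]
      constructor
      · rintro ⟨a, ha, rfl⟩
        exact ⟨a.2, mul_inv_eq_iff_eq_mul.mp (congrArg CJ.perm ha)⟩
      · rintro ⟨ha, hc⟩
        exact ⟨⟨a, ha⟩, congrArg CJ.mk (mul_inv_eq_iff_eq_mul.mpr hc), rfl⟩
    rw [← e, Nat.card_congr (Subgroup.equivMapOfInjective _ _ (Subgroup.subtype_injective _)).toEquiv.symm]
    exact Nat.eq_of_mul_eq_mul_left hN h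
  have hle : centM x ≤ C := inf_le_inf_right _ M12_le
  have hlt : centM x < C := lt_of_le_of_ne hle fun e => by
    have : o ∈ centM x := e.symm ▸ (⟨ho, Subgroup.mem_centralizer_singleton_iff.mpr hc⟩ : o ∈ C)
    exact hn this.1
  obtain ⟨k, hk⟩ := Subgroup.card_dvd_of_le hle
  rw [hC] at hk
  have hk2 : 2 ≤ k := by
    by_contra hc2
    have hk1 : k = 0 ∨ k = 1 := by omega
    rcases hk1 with rfl | rfl
    · rw [mul_zero] at hk
      have : 0 < Nat.card C := Nat.card_pos
      omega
    · rw [mul_one, ← hC] at hk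
      exact hlt.ne (Subgroup.eq_of_le_of_card_ge hle hk.le)
  nlinarith

/-- The product of the elements of a word represents the word. -/
theorem rep_word : ∀ {w : List PP}, (∀ g ∈ w, valid 24 g = true) → Rep (w.map toP).prod w
  | [], _ => rep_one
  | g :: w, h => by
    have := (rep_toP (h g (by simp))).mul (rep_word fun a ha => h a (List.mem_cons_of_mem _ ha))
    simpa using this

theorem mem_of_sift_word {K : CG} (hK : K.ok = true) {x : Equiv.Perm GolayPt} {w : List PP}
    (hw : ∀ g ∈ w, valid 24 g = true) (hx : Rep x w) (hs : sift 24 K.chain w = true) : x ∈ K.grp := by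
  rw [Rep.unique hx (rep_word hw)]
  have e : (w.map toP).prod = permHom (wperm 24 w) := by
    rw [wperm, map_list_prod, List.map_map]
    rfl
  rw [e]
  exact ⟨wperm 24 w, mem_grp_of_sift (CG.ok_spec hK).1 hw hs, rfl⟩

/-- The orbit of an involution from its tree. -/
theorem tree_orbit {v : PP} {t : STree} {N : ℕ} (hv : valid 24 v = true)
    (h : closedOK cjActP (cgDodPair.gens.map (·.1)) (wCode [v]) t = true ∧ (stVals t).length = N) :
    (∀ y, y ∈ orbit autM12 (CJ.mk (toP v)) ↔ cjEnc y ∈ stVals t) ∧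
      (orbit autM12 (CJ.mk (toP v))).ncard = N := by
  have hK : Subgroup.closure {p | ∃ g ∈ cgDodPair.gens.map (·.1), toP g = p} = autM12 := by
    refine Eq.trans ?_ (CG.ok_spec cgDodPair_ok).2.2
    congr 1
    ext p
    constructor
    · rintro ⟨g, hg, rfl⟩
      obtain ⟨f, hf, rfl⟩ := List.mem_map.mp hg
      exact ⟨f, hf, rfl⟩
    · rintro ⟨f, hf, rfl⟩
      exact ⟨f.1, List.mem_map.mpr ⟨f, hf, rfl⟩, rfl⟩
  have hspec : ∀ s ∈ cgDodPair.gens.map (·.1), ∀ x : CJ, cjEnc (toP s • x) = cjActP s (cjEnc x) := by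
    intro s hs x
    obtain ⟨g, hg, rfl⟩ := List.mem_map.mp hs
    exact cjEnc_smulP (valid_of_fvalid ((CG.ok_spec cgDodPair_ok).2.1 g hg)) x
  have hroot : cjEnc (CJ.mk (toP v)) = wCode [v] := Rep.cjEnc_eq (rep_toP hv)
  have key := closedOK_sound (t := t) cjEnc_injective toP autM12 hK hspec hroot (closedOK_spec h.1)
  exact ⟨key.1, key.2.trans h.2⟩

theorem invA_valid : valid 24 invA = true := valid_of_innerOK invA_ok.1

theorem invB_valid : valid 24 invB = true := valid_of_innerOK invB_ok.1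

/-- The centraliser of the first representative. -/
theorem centA_spec :
    Nat.card (centM (toP invA)) = 192 ∧ ∀ x, x ∈ centM (toP invA) → ∃ c ∈ centA, toP c = x := by
  obtain ⟨h1, h2, h3⟩ := outer_facts invA_valid invA_ok.2
  exact centM_eq_list invA_valid centA_ok
    (card_centM_le h1 h2 h3 (tree_orbit invA_valid treeA_closed).2 (by norm_num))

/-- The centraliser of the second representative. -/
theorem centB_spec :
    Nat.card (centM (toP invB)) = 240 ∧ ∀ x, x ∈ centM (toP invB) → ∃ c ∈ centB, toP c = x := by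
  obtain ⟨h1, h2, h3⟩ := outer_facts invB_valid invB_ok.2
  exact centM_eq_list invB_valid centB_ok
    (card_centM_le h1 h2 h3 (tree_orbit invB_valid treeB_closed).2 (by norm_num))

/-- The centraliser of the outer representative. -/
theorem centT_spec :
    Nat.card (centM outInv) = 120 ∧ ∀ x, x ∈ centM outInv → ∃ c ∈ centT, toP c = x :=
  centM_eq_list outX_facts.1 centT_ok card_cent_outInv.le

/-- The involutions of M12 form two classes in the automorphism group. -/
theorem inner_conj {x : Equiv.Perm GolayPt} (hx : x ∈ Spor.M12) (h2 : x * x = 1) (h1 : x ≠ 1) :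
    ∃ g ∈ autM12, g * toP invA * g⁻¹ = x ∨ g * toP invB * g⁻¹ = x := by
  haveI : Fact (Nat.Prime 2) := ⟨Nat.prime_two⟩
  haveI : Finite Spor.M12 := inferInstance
  let S : Sylow 2 Spor.M12 := Sylow.ofCard (cgAutSylM12.grp.subgroupOf Spor.M12) (by
    rw [Nat.card_congr (Subgroup.subgroupOfEquivOfLe syl_le_M12).toEquiv, CG.card_grp cgAutM12_ok.2,
      syl_in_m12.2, card_M12]
    rw [show (95040 : ℕ) = 2 ^ 6 * 1485 by norm_num, Nat.factorization_mul (by norm_num) (by norm_num),
      Nat.Prime.factorization_pow Nat.prime_two]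
    simp [Nat.factorization_eq_zero_of_not_dvd (show ¬ 2 ∣ 1485 by norm_num)])
  have hox : orderOf (⟨x, hx⟩ : Spor.M12) = 2 := orderOf_eq_prime
    (Subtype.ext (by rw [SubmonoidClass.coe_pow, sq]; exact h2)) fun e => h1 (congrArg Subtype.val e)
  obtain ⟨Q, hQ⟩ :=
    (IsPGroup.of_card (p := 2) (n := 1) ((Nat.card_zpowers _).trans (hox.trans (pow_one 2).symm))).exists_le_sylow
  obtain ⟨g, hg⟩ := MulAction.exists_smul_eq Spor.M12 S Q
  obtain ⟨u, hu, hgu⟩ : (⟨x, hx⟩ : Spor.M12) ∈ (g • S : Sylow 2 Spor.M12) := hg ▸ hQ (Subgroup.mem_zpowers _)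
  have hgu : (g : Equiv.Perm GolayPt) * u * (g : Equiv.Perm GolayPt)⁻¹ = x := congrArg Subtype.val hgu
  obtain ⟨w, hw, hr⟩ := rep_of_mem cgAutM12_ok.2 (Subgroup.mem_subgroupOf.mp hu)
  have hcov := List.all_eq_true.mp innerCover w hw
  simp only [Bool.or_eq_true, Bool.not_eq_true'] at hcov
  have huu : (u : Equiv.Perm GolayPt) * u = 1 := by
    rw [← hgu, conj_mul, conj_eq_one_iff] at h2
    exact h2
  have hu1 : (u : Equiv.Perm GolayPt) ≠ 1 := fun e => h1 (by rw [← hgu, e]; simp)
  rcases hcov with ((hc | hc) | hc) | hc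
  · rw [((hr.mul hr).eq_iff rep_one).mp huu] at hc
    cases hc
  · exact absurd ((hr.eq_iff rep_one).mpr hc) hu1
  all_goals
    obtain ⟨d, hd⟩ := Option.isSome_iff_exists.mp hc
    obtain ⟨e, he, he1, -⟩ := stFind_mem hd
  · obtain ⟨k, hk⟩ := ((tree_orbit invA_valid treeA_closed).1 (CJ.mk (u : Equiv.Perm GolayPt))).mpr
      (List.mem_map.mpr ⟨e, he, he1.trans (Rep.cjEnc_eq hr).symm⟩)
    have hk' : (k : Equiv.Perm GolayPt) * toP invA * (k : Equiv.Perm GolayPt)⁻¹ = u := congrArg CJ.perm hk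
    exact ⟨g * k, mul_mem (M12_le g.2) k.2, Or.inl (by rw [← hgu, ← hk']; group)⟩
  · obtain ⟨k, hk⟩ := ((tree_orbit invB_valid treeB_closed).1 (CJ.mk (u : Equiv.Perm GolayPt))).mpr
      (List.mem_map.mpr ⟨e, he, he1.trans (Rep.cjEnc_eq hr).symm⟩)
    have hk' : (k : Equiv.Perm GolayPt) * toP invB * (k : Equiv.Perm GolayPt)⁻¹ = u := congrArg CJ.perm hk
    exact ⟨g * k, mul_mem (M12_le g.2) k.2, Or.inr (by rw [← hgu, ← hk']; group)⟩

end Cfsg.Lib.StdMTwelve
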