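import Cfsg.Agent.StdMTwelve.OuterCert
import Cfsg.Agent.StdMTwelve.InnerData

/-!
The checks on the lists of centralisers of involutions in the automorphism group of M12.
-/

set_option autoImplicit false

namespace Cfsg.Lib.StdMTwelve

open Cfsg.Lib.PermCert Cfsg.Lib.Golay

/-- The code of a word. -/
def wCode (w : List PP) : ℕ := pack ((List.range 24).map (evalWord w))

/-- A list of distinct elements of M12 commuting with a given one. -/
def listOK (C : List PP) (v : PP) (n : ℕ) : Bool :=
  (C.all fun c => valid 24 c && sift 24 cgAutM12.chain [c] && FusionCert.same [c, v] [v, c]) &&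
    strictInc (C.map fun c => wCode [c]) && Nat.beq C.length n

/-- An involution of M12. -/
def innerOK (v : PP) : Bool :=
  valid 24 v && sift 24 cgAutM12.chain [v] && FusionCert.same [v, v] [] && !FusionCert.same [v] []

/-- An element of the pair stabiliser outside M12 commuting with a given one. -/
def outerOK (o v : PP) : Bool :=
  valid 24 o && sift 24 cgDodPair.chain [o] && FusionCert.same [o, v] [v, o] && !Nat.beq (img o dMask) dMask

/-- The words for the centraliser in the automorphism group. -/
def dWords (C : List PP) (o : PP) : List (List PP) := C.map (fun c => [c]) ++ C.map (fun c => [o, c])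

/-- The product of some conjugates of a word or of its inverse. -/
def conjProd (C : List PP) (y : List PP) (w : List (Bool × ℕ)) : List PP :=
  w.flatMap fun p => match C[p.2]? with
    | some c => [c] ++ (bif p.1 then (y.map pinv).reverse else y) ++ [pinv c]
    | none => []

/-- A power of a word. -/
def powWord (z : List PP) (m : ℕ) : List PP := (List.replicate m z).flatten

/-- A power of a word is an involution. -/
def invPow (z : List PP) (m : ℕ) : Bool :=
  FusionCert.same (powWord z m ++ powWord z m) [] && !FusionCert.same (powWord z m) []

/-- Every nontrivial normal subgroup has even order. -/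
def evenOK (C : List PP) (W : List (List (Bool × ℕ) × ℕ)) : Bool :=
  Nat.beq W.length C.length &&
    (C.zip W).all fun p => FusionCert.same [p.1] [] || invPow (conjProd C [p.1] p.2.1) p.2.2

/-- The centre is generated by the given involution. -/
def centreOK (C : List PP) (v : PP) : Bool :=
  C.all fun y => FusionCert.same [y] [] || FusionCert.same [y] [v] ||
    C.any fun c => !FusionCert.same [y, c] [c, y]

/-- A square root of the involution does not centralise its centraliser. -/
def rootOK (C : List PP) (D : List (List PP)) (v : PP) : Bool :=
  D.all fun y => !FusionCert.same (y ++ y) [v] || C.any fun c => !FusionCert.same (c :: y) (y ++ [c])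

/-- A square root has conjugates with another involution in their group, or centralises no element of order three. -/
def fourOK (C : List PP) (D : List (List PP)) (v : PP) (W : List (List (Bool × ℕ) × ℕ)) : Bool :=
  Nat.beq W.length D.length &&
    (D.zip W).all fun p => !FusionCert.same (p.1 ++ p.1) [v] ||
      (invPow (conjProd C p.1 p.2.1) p.2.2 && !FusionCert.same (powWord (conjProd C p.1 p.2.1) p.2.2) [v] &&
        sift 24 cgAutM12.chain (powWord (conjProd C p.1 p.2.1) p.2.2)) ||
      C.all fun c => !FusionCert.same [c, c, c] [] || FusionCert.same [c] [] ||
        !FusionCert.same (c :: p.1) (p.1 ++ [c])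

/-- Two elements of order three generate an involution other than the given one. -/
def threeOK (C : List PP) (v : PP) (d : ℕ × ℕ × ℕ) : Bool :=
  match C[d.1]?, C[d.2.1]? with
  | some a, some b => FusionCert.same [a, a, a] [] && FusionCert.same [b, b, b] [] &&
      invPow [a, b] d.2.2 && !FusionCert.same (powWord [a, b] d.2.2) [v]
  | _, _ => false

/-- Every conjugate is a conjugate of a representative under the centraliser. -/
def cosOK (C : List PP) (v : PP) (t : STree) (cos : List (ℕ × ℕ)) (moves : List PP) : Bool :=
  Nat.beq cos.length (stVals t).length &&
    ((stVals t).zip cos).all fun p => Nat.beq p.1 (wCode [v]) ||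
      match moves[p.2.1]?, C[p.2.2]? with
      | some y, some c => Nat.beq (wCode [c, y, v, pinv y, pinv c]) p.1
      | _, _ => false

/-- The centraliser and any representative generate M12. -/
def genWOK (C : List PP) (moves : List PP) (W : List (List (List ℕ))) : Bool :=
  Nat.beq W.length moves.length &&
    (moves.zip W).all fun p => valid 24 p.1 && sift 24 cgAutM12.chain [p.1] &&
      Nat.beq p.2.length cgAutM12.gens.length &&
      (cgAutM12.gens.zip p.2).all fun q => (q.2.all fun i => Nat.ble i C.length) &&
        FusionCert.same [q.1.1] (q.2.map fun i => (p.1 :: C).getD i (0, 0))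

end Cfsg.Lib.StdMTwelve
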