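import Cfsg.Agent.StdMTwelve.InnerBasic

/-!
What the checks say about the centralisers of the three representatives.
-/

set_option autoImplicit false
set_option linter.style.haveILetI false
set_option maxRecDepth 4000

namespace Cfsg.Lib.StdMTwelve

open Cfsg Cfsg.Lib.PermCert Cfsg.Lib.Golay MulAction
open scoped Pointwise

/-- A list is the centraliser in M12. -/
def IsList (C : List PP) (x : Equiv.Perm GolayPt) : Prop :=
  (∀ c ∈ C, valid 24 c = true ∧ toP c ∈ centM x) ∧ ∀ z, z ∈ centM x → ∃ c ∈ C, toP c = z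

theorem isListA : IsList centA (toP invA) :=
  ⟨(listOK_spec invA_valid centA_ok).1, centA_spec.2⟩

theorem isListB : IsList centB (toP invB) :=
  ⟨(listOK_spec invB_valid centB_ok).1, centB_spec.2⟩

theorem isListT : IsList centT outInv :=
  ⟨(listOK_spec outX_facts.1 centT_ok).1, centT_spec.2⟩

theorem valid_word {w : List PP} {p : List PP} (hw : ∀ g ∈ w, valid 24 g = true) (hp : p = (w.map pinv).reverse) :
    ∀ g ∈ p, valid 24 g = true := by
  subst hp
  intro g hg
  obtain ⟨a, ha, rfl⟩ := List.mem_map.mp (List.mem_reverse.mp hg)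
  exact valid_pinv (hw a ha)

theorem rep_word_inv : ∀ {w : List PP}, (∀ g ∈ w, valid 24 g = true) →
    Rep ((w.map toP).prod)⁻¹ (w.map pinv).reverse
  | [], _ => by simpa using rep_one
  | g :: w, h => by
    have := (rep_word_inv (w := w) fun a ha => h a (List.mem_cons_of_mem _ ha)).mul (rep_inv (h g (by simp)))
    simpa using this

theorem rep_powWord {x : Equiv.Perm GolayPt} {z : List PP} (hx : Rep x z) :
    ∀ m : ℕ, Rep (x ^ m) (powWord z m)
  | 0 => by simpa [powWord] using rep_one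
  | m + 1 => by
    have := hx.mul (rep_powWord hx m)
    rw [pow_succ']
    simpa [powWord, List.replicate_succ] using this

/-- Conjugates of an element or of its inverse under a subgroup. -/
def conjSet (H : Subgroup (Equiv.Perm GolayPt)) (y : Equiv.Perm GolayPt) : Set (Equiv.Perm GolayPt) :=
  {z | ∃ c ∈ H, z = c * y * c⁻¹}

theorem rep_conjProd {C : List PP} {x : Equiv.Perm GolayPt} (hC : IsList C x) {yw : List PP}
    (hy : ∀ g ∈ yw, valid 24 g = true) : ∀ w : List (Bool × ℕ),
    (∀ g ∈ conjProd C yw w, valid 24 g = true) ∧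
      ∃ z ∈ Subgroup.closure (conjSet (centM x) (yw.map toP).prod), Rep z (conjProd C yw w)
  | [] => ⟨fun g hg => by simp [conjProd] at hg, 1, one_mem _, rep_one⟩
  | p :: w => by
    obtain ⟨hv, z, hz, hr⟩ := rep_conjProd hC hy w
    rcases hc : C[p.2]? with _ | c
    · have e : conjProd C yw (p :: w) = conjProd C yw w := by simp [conjProd, hc]
      exact e ▸ ⟨hv, z, hz, hr⟩
    have hcm := hC.1 c (List.mem_of_getElem? hc)
    set Y := (yw.map toP).prod
    have hmid : ∀ s : Bool, ∃ u, u ∈ Subgroup.closure (conjSet (centM x) Y) ∧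
        Rep u ([c] ++ (bif s then (yw.map pinv).reverse else yw) ++ [pinv c]) := by
      intro s
      cases s
      · exact ⟨toP c * Y * (toP c)⁻¹, Subgroup.subset_closure ⟨_, hcm.2, rfl⟩,
          ((rep_toP hcm.1).mul (rep_word hy)).mul (rep_inv hcm.1)⟩
      · refine ⟨toP c * Y⁻¹ * (toP c)⁻¹, ?_, ((rep_toP hcm.1).mul (rep_word_inv hy)).mul (rep_inv hcm.1)⟩
        rw [← conj_inv]
        exact inv_mem (Subgroup.subset_closure ⟨_, hcm.2, rfl⟩)
    obtain ⟨u, hu, hru⟩ := hmid p.1
    have e : conjProd C yw (p :: w) =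
        ([c] ++ (bif p.1 then (yw.map pinv).reverse else yw) ++ [pinv c]) ++ conjProd C yw w := by
      simp [conjProd, hc]
    rw [e]
    refine ⟨fun g hg => ?_, u * z, mul_mem hu hz, hru.mul hr⟩
    simp only [List.mem_append, List.mem_cons, List.not_mem_nil, or_false] at hg
    rcases hg with ((rfl | hg) | rfl) | hg
    · exact hcm.1
    · cases hp : p.1 <;> rw [hp] at hg
      · exact hy g hg
      · exact valid_word hy rfl g hg
    · exact valid_pinv hcm.1
    · exact hv g hg

/-- Every nontrivial element has conjugates generating a group of even order. -/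
theorem exists_invol_closure {C : List PP} {x : Equiv.Perm GolayPt} (hC : IsList C x)
    {W : List (List (Bool × ℕ) × ℕ)} (h : evenOK C W = true) {y : Equiv.Perm GolayPt} (hy : y ∈ centM x)
    (hy1 : y ≠ 1) : ∃ q ∈ Subgroup.closure (conjSet (centM x) y), q * q = 1 ∧ q ≠ 1 := by
  simp only [evenOK, Bool.and_eq_true, List.all_eq_true, Bool.or_eq_true] at h
  obtain ⟨c, hc, rfl⟩ := hC.2 y hy
  obtain ⟨i, hi, rfl⟩ := List.getElem_of_mem hc
  have hlen : W.length = C.length := Nat.eq_of_beq_eq_true h.1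
  have hmem : (C[i], W[i]'(hlen ▸ hi)) ∈ C.zip W := by
    have : i < (C.zip W).length := by rw [List.length_zip, hlen]; omega
    exact List.mem_iff_getElem.mpr ⟨i, this, List.getElem_zip⟩
  have hv := (hC.1 _ (List.getElem_mem hi)).1
  rcases h.2 _ hmem with h1 | h1
  · exact absurd (((rep_toP hv).eq_iff rep_one).mpr h1) hy1
  obtain ⟨-, z, hz, hr⟩ := rep_conjProd hC (yw := [C[i]]) (by simpa using hv) (W[i]'(hlen ▸ hi)).1
  simp only [invPow, Bool.and_eq_true, Bool.not_eq_true'] at h1
  have hp := rep_powWord hr (W[i]'(hlen ▸ hi)).2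
  refine ⟨z ^ (W[i]'(hlen ▸ hi)).2, pow_mem (by simpa using hz) _, ((hp.mul hp).eq_iff rep_one).mpr h1.1,
    fun e => ?_⟩
  rw [(hp.eq_iff rep_one).mp e] at h1
  exact absurd h1.2 (by simp)

/-- The centre of the centraliser. -/
theorem centre_cases {C : List PP} {x : Equiv.Perm GolayPt} (hC : IsList C x) {v : PP} (hv : valid 24 v = true)
    (h : centreOK C v = true) {y : Equiv.Perm GolayPt} (hy : y ∈ centM x) (hall : ∀ c ∈ centM x, y * c = c * y) :
    y = 1 ∨ y = toP v := by
  obtain ⟨a, ha, rfl⟩ := hC.2 y hy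
  simp only [centreOK, List.all_eq_true, List.any_eq_true, Bool.or_eq_true, Bool.not_eq_true'] at h
  have hav := (hC.1 a ha).1
  rcases h a ha with (h1 | h1) | ⟨c, hc, h1⟩
  · exact Or.inl (((rep_toP hav).eq_iff rep_one).mpr h1)
  · exact Or.inr (((rep_toP hav).eq_iff (rep_toP hv)).mpr h1)
  · have hcv := (hC.1 c hc).1
    have h2 : FusionCert.same [a, c] [c, a] = true :=
      (((rep_toP hav).mul (rep_toP hcv)).eq_iff ((rep_toP hcv).mul (rep_toP hav))).mp (hall _ (hC.1 c hc).2)
    rw [h2] at h1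
    cases h1

/-- An element of the automorphism group commuting with `x` lies in the listed coset. -/
theorem word_cases {C : List PP} {x : Equiv.Perm GolayPt} (hC : IsList C x) {o : PP} (hov : valid 24 o = true)
    (ho : toP o ∈ autM12 ∧ toP o ∉ Spor.M12 ∧ toP o * x = x * toP o) {y : Equiv.Perm GolayPt} (hy : y ∈ autM12)
    (hyx : y * x = x * y) :
    ∃ w ∈ dWords C o, Rep y w ∧ ∀ g ∈ w, valid 24 g = true := by
  by_cases hm : y ∈ Spor.M12
  · obtain ⟨c, hc, rfl⟩ := hC.2 y (mem_centM.mpr ⟨hm, hyx⟩)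
    refine ⟨[c], ?_, rep_toP (hC.1 c hc).1, by simpa using (hC.1 c hc).1⟩
    exact List.mem_append_left _ (List.mem_map.mpr ⟨c, hc, rfl⟩)
  · have hz : (toP o)⁻¹ * y ∈ centM x :=
      mem_centM.mpr ⟨mul_mem_M12 (inv_mem ho.1) hy (fun e => ho.2.1 (inv_mem_iff.mp e)) hm,
        Commute.mul_left (Commute.inv_left ho.2.2) hyx⟩
    obtain ⟨c, hc, hcy⟩ := hC.2 _ hz
    refine ⟨[o, c], List.mem_append_right _ (List.mem_map.mpr ⟨c, hc, rfl⟩), ?_, ?_⟩
    · have := (rep_toP hov).mul (rep_toP (hC.1 c hc).1)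
      rw [hcy, mul_inv_cancel_left] at this
      exact this
    · simpa using ⟨hov, (hC.1 c hc).1⟩

/-- A square root of the involution moves something in its centraliser. -/
theorem root_moves {C : List PP} {v o : PP} (hv : valid 24 v = true) (hC : IsList C (toP v))
    (hov : valid 24 o = true) (ho : toP o ∈ autM12 ∧ toP o ∉ Spor.M12 ∧ toP o * toP v = toP v * toP o)
    (h : rootOK C (dWords C o) v = true) {y : Equiv.Perm GolayPt} (hy : y ∈ autM12) (h2 : y * y = toP v) :
    ∃ c ∈ centM (toP v), c * y ≠ y * c := by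
  obtain ⟨w, hw, hr, -⟩ := word_cases hC hov ho hy (by rw [← h2, mul_assoc])
  simp only [rootOK, List.all_eq_true, List.any_eq_true, Bool.or_eq_true, Bool.not_eq_true'] at h
  rcases h w hw with h1 | ⟨c, hc, h1⟩
  · rw [((hr.mul hr).eq_iff (rep_toP hv)).mp h2] at h1
    cases h1
  · refine ⟨toP c, (hC.1 c hc).2, fun e => ?_⟩
    have h3 : FusionCert.same ([c] ++ w) (w ++ [c]) = true :=
      (((rep_toP (hC.1 c hc).1).mul hr).eq_iff (hr.mul (rep_toP (hC.1 c hc).1))).mp e
    rw [show c :: w = [c] ++ w from rfl, h3] at h1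
    cases h1

/-- A square root has conjugates with another inner involution, or centralises no element of order three. -/
theorem four_cases {C : List PP} {v o : PP} (hv : valid 24 v = true) (hC : IsList C (toP v))
    (hov : valid 24 o = true) (ho : toP o ∈ autM12 ∧ toP o ∉ Spor.M12 ∧ toP o * toP v = toP v * toP o)
    {W : List (List (Bool × ℕ) × ℕ)} (h : fourOK C (dWords C o) v W = true) {y : Equiv.Perm GolayPt}
    (hy : y ∈ autM12) (h2 : y * y = toP v) :
    (∃ q ∈ Subgroup.closure (conjSet (centM (toP v)) y), q ∈ Spor.M12 ∧ q * q = 1 ∧ q ≠ 1 ∧ q ≠ toP v) ∨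
      ∀ c ∈ centM (toP v), c * c * c = 1 → c * y = y * c → c = 1 := by
  obtain ⟨w, hw, hr, hwv⟩ := word_cases hC hov ho hy (by rw [← h2, mul_assoc])
  obtain ⟨i, hi, rfl⟩ := List.getElem_of_mem hw
  simp only [fourOK, Bool.and_eq_true, List.all_eq_true, Bool.or_eq_true, Bool.not_eq_true'] at h
  have hlen : W.length = (dWords C o).length := Nat.eq_of_beq_eq_true h.1
  have hmem : ((dWords C o)[i], W[i]'(hlen ▸ hi)) ∈ (dWords C o).zip W := by
    have : i < ((dWords C o).zip W).length := by rw [List.length_zip, hlen]; omega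
    exact List.mem_iff_getElem.mpr ⟨i, this, List.getElem_zip⟩
  have hY : ((dWords C o)[i].map toP).prod = y := Rep.unique (rep_word hwv) hr
  rcases h.2 _ hmem with (h1 | h1) | h1
  · rw [((hr.mul hr).eq_iff (rep_toP hv)).mp h2] at h1
    cases h1
  · left
    obtain ⟨hcv, z, hz, hrz⟩ := rep_conjProd hC hwv (W[i]'(hlen ▸ hi)).1
    rw [hY] at hz
    simp only [invPow, Bool.and_eq_true, Bool.not_eq_true'] at h1
    have hp := rep_powWord hrz (W[i]'(hlen ▸ hi)).2
    refine ⟨z ^ (W[i]'(hlen ▸ hi)).2, pow_mem hz _, ?_, ((hp.mul hp).eq_iff rep_one).mpr h1.1.1.1, ?_, ?_⟩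
    · rw [M12_eq_grp]
      refine mem_of_sift_word cgAutM12_ok.1 (fun g hg => ?_) hp h1.2
      obtain ⟨l, hl, hgl⟩ := List.mem_flatten.mp hg
      exact hcv g (List.eq_of_mem_replicate hl ▸ hgl)
    · exact fun e => absurd ((hp.eq_iff rep_one).mp e) (by simp [h1.1.1.2])
    · exact fun e => absurd ((hp.eq_iff (rep_toP hv)).mp e) (by simp [h1.1.2])
  · right
    intro c hc h3 hcy
    obtain ⟨a, ha, rfl⟩ := hC.2 c hc
    have hav := rep_toP (hC.1 a ha).1
    rcases h1 a ha with (h4 | h4) | h4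
    · exact absurd ((((hav.mul hav).mul hav).eq_iff rep_one).mp h3) (by simp [h4])
    · exact ((hav.eq_iff rep_one)).mpr h4
    · have h5 : FusionCert.same ([a] ++ (dWords C o)[i]) ((dWords C o)[i] ++ [a]) = true :=
        ((hav.mul hr).eq_iff (hr.mul hav)).mp hcy
      rw [show a :: (dWords C o)[i] = [a] ++ (dWords C o)[i] from rfl, h5] at h4
      cases h4

/-- Two elements of order three generate another involution. -/
theorem three_gen {C : List PP} {x : Equiv.Perm GolayPt} (hC : IsList C x) {v : PP} (hv : valid 24 v = true)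
    {d : ℕ × ℕ × ℕ} (h : threeOK C v d = true) :
    ∃ a ∈ centM x, ∃ b ∈ centM x, a * a * a = 1 ∧ b * b * b = 1 ∧
      ∃ q ∈ Subgroup.closure ({a, b} : Set (Equiv.Perm GolayPt)), q * q = 1 ∧ q ≠ 1 ∧ q ≠ toP v := by
  simp only [threeOK] at h
  split at h
  · next a b ha hb =>
    simp only [invPow, Bool.and_eq_true, Bool.not_eq_true'] at h
    obtain ⟨⟨⟨h1, h2⟩, h3, h4⟩, h5⟩ := h
    have hav := hC.1 a (List.mem_of_getElem? ha)
    have hbv := hC.1 b (List.mem_of_getElem? hb)
    have ra := rep_toP hav.1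
    have rb := rep_toP hbv.1
    have hp := rep_powWord (ra.mul rb) d.2.2
    refine ⟨_, hav.2, _, hbv.2, (((ra.mul ra).mul ra).eq_iff rep_one).mpr h1,
      (((rb.mul rb).mul rb).eq_iff rep_one).mpr h2, _,
      pow_mem (mul_mem (Subgroup.subset_closure (by simp)) (Subgroup.subset_closure (by simp))) d.2.2,
      ((hp.mul hp).eq_iff rep_one).mpr h3, fun e => ?_, fun e => ?_⟩
    · exact absurd ((hp.eq_iff rep_one).mp e) (by simpa using h4)
    · exact absurd ((hp.eq_iff (rep_toP hv)).mp e) (by simpa using h5)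
  · cases h

/-- The centraliser is a maximal subgroup of M12. -/
theorem maximal_rep {C : List PP} {v : PP} {t : STree} {N : ℕ} {cos : List (ℕ × ℕ)} {moves : List PP}
    {W : List (List (List ℕ))} (hv : valid 24 v = true)
    (hC : IsList C (toP v))
    (ht : closedOK cjActP (cgDodPair.gens.map (·.1)) (wCode [v]) t = true ∧ (stVals t).length = N)
    (hcos : cosOK C v t cos moves = true) (hW : genWOK C moves W = true)
    (S : Subgroup (Equiv.Perm GolayPt)) (hS : S ≤ Spor.M12) (hle : centM (toP v) ≤ S) :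
    S = centM (toP v) ∨ S = Spor.M12 := by
  by_cases hall : ∀ y ∈ S, y ∈ centM (toP v)
  · exact Or.inl (le_antisymm hall hle)
  refine Or.inr (le_antisymm hS ?_)
  push Not at hall
  obtain ⟨y, hy, hyn⟩ := hall
  have horb : CJ.mk (y * toP v * y⁻¹) ∈ orbit autM12 (CJ.mk (toP v)) := ⟨⟨y, M12_le (hS hy)⟩, rfl⟩
  have hcode := ((tree_orbit hv ht).1 _).mp horb
  simp only [cosOK, Bool.and_eq_true, List.all_eq_true, Bool.or_eq_true] at hcos
  have hlen : cos.length = (stVals t).length := Nat.eq_of_beq_eq_true hcos.1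
  obtain ⟨i, hi, hie⟩ := List.getElem_of_mem hcode
  have hmem : ((stVals t)[i], cos[i]'(hlen ▸ hi)) ∈ (stVals t).zip cos := by
    have : i < ((stVals t).zip cos).length := by rw [List.length_zip, hlen]; omega
    exact List.mem_iff_getElem.mpr ⟨i, this, List.getElem_zip⟩
  have hcase := hcos.2 _ hmem
  rw [hie] at hcase
  rcases hcase with h1 | h1
  · refine absurd (mem_centM.mpr ⟨hS hy, ?_⟩) hyn
    have := cjEnc_injective ((Nat.eq_of_beq_eq_true h1).trans (Rep.cjEnc_eq (rep_toP hv)).symm)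
    exact mul_inv_eq_iff_eq_mul.mp (congrArg CJ.perm this)
  simp only [genWOK, Bool.and_eq_true, List.all_eq_true] at hW
  split at h1
  · next yr c hyr hc =>
    have hWlen : W.length = moves.length := Nat.eq_of_beq_eq_true hW.1
    obtain ⟨r, hr⟩ : ∃ r, moves[r]? = some yr := ⟨_, hyr⟩
    obtain ⟨hrlt, hre⟩ := List.getElem?_eq_some_iff.mp hr
    have hmemW : (moves[r], W[r]'(hWlen ▸ hrlt)) ∈ moves.zip W := by
      have : r < (moves.zip W).length := by rw [List.length_zip, hWlen]; omega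
      exact List.mem_iff_getElem.mpr ⟨r, this, List.getElem_zip⟩
    obtain ⟨⟨⟨hyv, hys⟩, hgl⟩, hwords⟩ := hW.2 _ hmemW
    simp only [hre] at hyv hys hwords
    have hcm := hC.1 c (List.mem_of_getElem? hc)
    have hyrM : toP yr ∈ Spor.M12 := M12_eq_grp ▸ mem_of_sift cgAutM12_ok.1 hyv hys
    have hconj : toP c * (toP yr * toP v * (toP yr)⁻¹) * (toP c)⁻¹ = y * toP v * y⁻¹ := by
      have hR : Rep (toP c * (toP yr * toP v * (toP yr)⁻¹) * (toP c)⁻¹) [c, yr, v, pinv yr, pinv c] :=
        ((rep_toP hcm.1).mul (((rep_toP hyv).mul (rep_toP hv)).mul (rep_inv hyv))).mul (rep_inv hcm.1)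
      have := cjEnc_injective ((Rep.cjEnc_eq hR).trans (Nat.eq_of_beq_eq_true h1))
      exact congrArg CJ.perm this
    have hk : y⁻¹ * (toP c * toP yr) ∈ centM (toP v) := by
      refine mem_centM.mpr ⟨mul_mem (inv_mem (hS hy)) (mul_mem hcm.2.1 hyrM), ?_⟩
      calc y⁻¹ * (toP c * toP yr) * toP v
          = y⁻¹ * (toP c * (toP yr * toP v * (toP yr)⁻¹) * (toP c)⁻¹) * (toP c * toP yr) := by group
        _ = y⁻¹ * (y * toP v * y⁻¹) * (toP c * toP yr) := by rw [hconj]
        _ = toP v * (y⁻¹ * (toP c * toP yr)) := by group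
    have hyS : toP yr ∈ S := by
      have := mul_mem (inv_mem (hle hcm.2)) (mul_mem hy (hle hk))
      simpa [mul_assoc] using this
    rw [M12_eq_grp, ← (CG.ok_spec cgAutM12_ok.1).2.2, Subgroup.closure_le]
    rintro _ ⟨g, hg, rfl⟩
    obtain ⟨j, hj, rfl⟩ := List.getElem_of_mem hg
    have hjW : j < (W[r]'(hWlen ▸ hrlt)).length := (Nat.eq_of_beq_eq_true hgl) ▸ hj
    have hmemg : (cgAutM12.gens[j], (W[r]'(hWlen ▸ hrlt))[j]) ∈ cgAutM12.gens.zip (W[r]'(hWlen ▸ hrlt)) := by
      have : j < (cgAutM12.gens.zip (W[r]'(hWlen ▸ hrlt))).length := by rw [List.length_zip]; omega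
      exact List.mem_iff_getElem.mpr ⟨j, this, List.getElem_zip⟩
    obtain ⟨hidx, hsame⟩ := hwords _ hmemg
    have hall' : ∀ g ∈ ((W[r]'(hWlen ▸ hrlt))[j]).map (fun i => (yr :: C).getD i (0, 0)),
        valid 24 g = true ∧ toP g ∈ S := by
      intro g hg
      obtain ⟨k, hk', rfl⟩ := List.mem_map.mp hg
      have hkl : k < (yr :: C).length := by
        have := Nat.le_of_ble_eq_true (hidx k hk')
        simp only [List.length_cons]; omega
      rw [List.getD_eq_getElem _ _ hkl]
      rcases List.mem_cons.mp (List.getElem_mem hkl) with e | e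
      · rw [e]; exact ⟨hyv, hyS⟩
      · exact ⟨(hC.1 _ e).1, hle (hC.1 _ e).2⟩
    have hgv := valid_of_fvalid ((CG.ok_spec cgAutM12_ok.1).2.1 _ (List.getElem_mem hj))
    rw [SetLike.mem_coe, ((rep_toP hgv).eq_iff (rep_word fun g hg => (hall' g hg).1)).mpr hsame]
    exact list_prod_mem fun z hz => by
      obtain ⟨g, hg, rfl⟩ := List.mem_map.mp hz
      exact (hall' g hg).2
  · cases h1

end Cfsg.Lib.StdMTwelve
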