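import Cfsg.Agent.StdMTwelve.OuterData
import Cfsg.Agent.Golay.AutM12
import Cfsg.Agent.Golay.StdObjects

/-!
The certificates for the outer involutions of the stabiliser of a pair of complementary dodecads.
-/

set_option autoImplicit false
set_option maxRecDepth 100000

namespace Cfsg.Lib.StdMTwelve

open Cfsg.Lib.PermCert Cfsg.Lib.Golay

/-- The two dodecads of the pair. -/
def dMask : ℕ := 340831

theorem outX_facts : valid 24 outX = true ∧ sift 24 cgDodPair.chain [outX] = true ∧
    FusionCert.same [outX, outX] [] = true ∧ FusionCert.same [outX] [] = false ∧ img outX dMask ≠ dMask := by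
  decide +kernel

theorem outX_normalises : (cgAutSylM12.gens.all fun g => sift 24 cgAutSylM12.chain [outX, g.1, outX]) = true := by
  decide +kernel

theorem outTree_closed :
    closedOK cjActP (cgDodPair.gens.map (·.1)) (pack ((List.range 24).map (ap outX.1))) outTree = true := by
  decide +kernel

theorem outTree_size : (stVals outTree).length = 792 := by decide +kernel

theorem outCover : ((FusionCert.elems cgAutSylM12.chain).all fun w =>
    !FusionCert.same ((outX :: w) ++ (outX :: w)) [] ||
      (stFind outTree (pack ((List.range 24).map (evalWord (outX :: w))))).isSome) = true := by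
  decide +kernel

theorem m12_in_pair : gensIn cgAutM12 cgDodPair = true := by decide +kernel

theorem syl_in_m12 : gensIn cgAutSylM12 cgAutM12 = true ∧ size cgAutSylM12.chain = 64 := by decide +kernel

theorem pair_size : size cgDodPair.chain = 190080 ∧ size cgAutM12.chain = 95040 := by decide +kernel

end Cfsg.Lib.StdMTwelve
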