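import Cfsg.Agent.S1911
import Cfsg.Agent.S2903
import Cfsg.Agent.S1754
import Cfsg.Agent.PGroups.Basic

/-!
A standard subgroup which is not solvable, in a simple group: some conjugate of its centralizer meets its normalizer
evenly, which gives two commuting involutions in different conjugates of the centralizer.
-/

set_option autoImplicit false
set_option linter.style.haveILetI false

namespace Cfsg.Lib.StdMTwelve

open Subgroup

universe u

variable {G : Type u} [Group G] [Finite G]

/-- An involution normalising a subgroup of even order centralises an involution of it. -/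
theorem exists_involution_commuting {C : Subgroup G} (h2 : Even (Nat.card C)) {u : G}
    (hu : u ∈ normalizer (C : Set G)) (hu2 : orderOf u = 2) :
    ∃ t ∈ C, orderOf t = 2 ∧ t * u = u * t := by
  haveI : Fact (Nat.Prime 2) := ⟨Nat.prime_two⟩
  set W := normalizer (C : Set G)
  haveI : (C.subgroupOf W).Normal := normal_in_normalizer
  have ho : orderOf (⟨u, hu⟩ : W) = 2 := by rw [orderOf_mk, hu2]
  obtain ⟨P, hP⟩ := (IsPGroup.of_card (p := 2) (n := 1) (G := zpowers (⟨u, hu⟩ : W))
    (by rw [Nat.card_zpowers, ho, pow_one])).exists_le_sylow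
  have hne : (C.subgroupOf W).subgroupOf (P : Subgroup W) ≠ ⊥ := by
    intro hbot
    refine P.not_dvd_index (even_iff_two_dvd.1 ?_)
    set π := QuotientGroup.mk' (C.subgroupOf W)
    have hinj : Function.Injective (π.comp (P : Subgroup W).subtype) := by
      rw [← MonoidHom.ker_eq_bot_iff, ← MonoidHom.comap_ker, QuotientGroup.ker_mk']
      exact hbot
    have hd : Nat.card (P : Subgroup W) * 2 ∣ Nat.card W := by
      rw [Subgroup.card_eq_card_quotient_mul_card_subgroup (C.subgroupOf W),
        Nat.card_congr (subgroupOfEquivOfLe (le_normalizer (H := C))).toEquiv]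
      exact mul_dvd_mul (Subgroup.card_dvd_of_injective _ hinj) h2.two_dvd
    rw [← Subgroup.card_mul_index (P : Subgroup W)] at hd
    exact even_iff_two_dvd.2 (Nat.dvd_of_mul_dvd_mul_left Nat.card_pos hd)
  obtain ⟨z, hz, hzc, hzo⟩ := Cfsg.Lib.PGroups.exists_mem_center_of_normal_ne_bot P.isPGroup' hne
  refine ⟨((z : W) : G), hz, by rw [orderOf_coe, orderOf_coe, hzo], ?_⟩
  exact (congrArg (fun x : (P : Subgroup W) => ((x : W) : G))
    (mem_center_iff.1 hzc ⟨⟨u, hu⟩, hP (mem_zpowers _)⟩)).symm

theorem prank_two_of_simple [IsSimpleGroup G] (hG : ¬ IsMulCommutative G) {t : G} (ht : orderOf t = 2) :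
    Cfsg.PRankAtLeast 2 2 G := by
  obtain ⟨x, y, hx, hy, hne, hxx, hyy, hc⟩ := Cfsg.Lib.BenderSuzuki.two_commuting ht hG
  have hcomm : ∀ a ∈ ({x, y} : Set G), ∀ b ∈ ({x, y} : Set G), a * b = b * a := by
    rintro a (rfl | rfl) b (rfl | rfl) <;> first | rfl | exact hc | exact hc.symm
  haveI := Subgroup.isMulCommutative_closure hcomm
  refine ⟨closure {x, y}, inferInstance, fun a ha => ?_, ?_⟩
  · induction ha using closure_induction with
    | mem a h => rcases h with rfl | rfl <;> simp [pow_two, hxx, hyy]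
    | one => simp
    | mul a b ha hb iha ihb =>
      have hab : Commute a b := congrArg Subtype.val (mul_comm' (⟨a, ha⟩ : closure {x, y}) ⟨b, hb⟩)
      rw [hab.mul_pow, iha, ihb, one_mul]
    | inv a _ iha => rw [inv_pow, iha, inv_one]
  · classical
    let f : Fin 4 → closure ({x, y} : Set G) := ![1, ⟨x, subset_closure (Or.inl rfl)⟩,
      ⟨y, subset_closure (Or.inr rfl)⟩,
      ⟨x * y, mul_mem (subset_closure (Or.inl rfl)) (subset_closure (Or.inr rfl))⟩]
    have hf : Function.Injective f := by
      have hxy : x * y ≠ 1 := fun h => hne (mul_right_cancel (h.trans hyy.symm))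
      intro i j h
      have h' := congrArg Subtype.val h
      fin_cases i <;> fin_cases j <;> simp [f, mul_eq_left, mul_eq_right] at h' ⊢ <;>
        first
          | exact hx h' | exact hx h'.symm | exact hy h' | exact hy h'.symm | exact hne h' | exact hne h'.symm
          | exact hxy h' | exact hxy h'.symm
    simpa using Nat.card_le_card_of_injective f hf

/-- Some conjugate of the centralizer of a nonsolvable standard subgroup meets its normalizer evenly. -/
theorem exists_even_meet [IsSimpleGroup G] (hG : ¬ IsMulCommutative G) {L : Subgroup G}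
    (hL : Cfsg.IsStandardSubgroup L) (hns : ¬ Group.IsSolvable L) :
    ∃ g : G, g ∉ normalizer (L : Set G) ∧
      Even (Nat.card ↥((centralizer (L : Set G)).map (MulAut.conj g).toMonoidHom ⊓ normalizer (L : Set G))) := by
  obtain ⟨hq, hT, -, hN⟩ := hL
  set C := centralizer (L : Set G)
  rw [hN]
  by_contra hno
  simp only [not_exists, not_and, Nat.not_even_iff_odd] at hno
  haveI : Nontrivial C := Finite.one_lt_card_iff_nontrivial.1 (by
    obtain ⟨k, hk⟩ := hT.1
    have : 0 < Nat.card C := Nat.card_pos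
    omega)
  have hCn : ¬ C.Normal := by
    intro hn
    rcases hn.eq_bot_or_eq_top with h | h
    · exact (Subgroup.nontrivial_iff_ne_bot C).1 inferInstance h
    · refine hns ?_
      have hcom : IsMulCommutative L := ⟨⟨fun a b => Subtype.ext
        (mem_centralizer_iff.1 (h ▸ mem_top (b : G) : (b : G) ∈ C) a a.2)⟩⟩
      exact Group.isSolvable_of_comm fun a b => mul_comm' a b
  have hK : normalClosure (C : Set G) = ⊤ := by
    refine (normalClosure_normal.eq_bot_or_eq_top).resolve_left fun h => ?_
    exact (Subgroup.nontrivial_iff_ne_bot C).1 inferInstance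
      (le_bot_iff.1 (h ▸ le_normalClosure))
  rcases Cfsg.Agent.S1911.result C hT hno with h | h
  · exact hCn h
  · set K := normalClosure (C : Set G)
    obtain ⟨t, ht⟩ := exists_prime_orderOf_dvd_card' (G := C) 2 hT.1.two_dvd
    have hr := prank_two_of_simple hG (t := (t : G)) (by rwa [orderOf_coe])
    have hse : Cfsg.IsStronglyEmbedded (normalizer (C : Set G)) := by
      obtain ⟨h1, h2, h3⟩ := h
      refine ⟨fun e => h1 (by rw [e]; exact top_subgroupOf _), ?_, fun g hg => ?_⟩
      · rwa [Nat.card_congr (subgroupOfEquivOfLe (le_top.trans hK.ge)).toEquiv] at h2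
      · have h4 := h3 ⟨g, hK.ge (mem_top g)⟩ hg
        rw [← Nat.card_congr (subgroupOfEquivOfLe (le_top.trans hK.ge :
          normalizer (C : Set G) ⊓ (normalizer (C : Set G)).map (MulAut.conj g).toMonoidHom ≤ K)).toEquiv]
        refine h4.of_dvd_nat (Subgroup.card_dvd_of_le ?_)
        rintro k ⟨hk1, a, ha, e⟩
        exact ⟨hk1, ⟨a, hK.ge (mem_top a)⟩, ha, Subtype.ext e⟩
    have hsol := Cfsg.Agent.S2903.result hr _ (Cfsg.Lib.BenderSE.CritDep.spe_of_se hse)
    refine hns ?_
    haveI : Group.IsSolvable ↥(normalizer (C : Set G)) := hsol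
    exact Group.isSolvable_of_isSolvable_injective
      (f := inclusion (le_normalizer.trans hN.le)) (inclusion_injective _)

/-- The commuting pair in two different conjugates of the centralizer. -/
theorem exists_pair [IsSimpleGroup G] (hG : ¬ IsMulCommutative G) {L : Subgroup G}
    (hL : Cfsg.IsStandardSubgroup L) (hns : ¬ Group.IsSolvable L) :
    ∃ g t u : G, g ∉ normalizer (L : Set G) ∧ t ∈ centralizer (L : Set G) ∧ orderOf t = 2 ∧
      u ∈ (centralizer (L : Set G)).map (MulAut.conj g).toMonoidHom ∧ orderOf u = 2 ∧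
      t * u = u * t ∧ u ∈ normalizer (L : Set G) ∧ u ∉ centralizer (L : Set G) ∧
      centralizer ({t} : Set G) ≤ normalizer (L : Set G) ∧
      centralizer ({u} : Set G) ≤ normalizer ((L.map (MulAut.conj g).toMonoidHom : Subgroup G) : Set G) ∧
      t ∈ normalizer ((L.map (MulAut.conj g).toMonoidHom : Subgroup G) : Set G) := by
  obtain ⟨g, hg, hev⟩ := exists_even_meet hG hL hns
  obtain ⟨v, hv⟩ := exists_prime_orderOf_dvd_card' (G := ↥((centralizer (L : Set G)).map
    (MulAut.conj g).toMonoidHom ⊓ normalizer (L : Set G))) 2 hev.two_dvd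
  obtain ⟨hvC, hvN⟩ := mem_inf.1 v.2
  have hv2 : orderOf (v : G) = 2 := by rw [orderOf_coe, hv]
  obtain ⟨-, hT, -, hN⟩ := id hL
  obtain ⟨t, htC, ht2, htu⟩ := exists_involution_commuting hT.1 (hN ▸ hvN) hv2
  have hCt := (Cfsg.Agent.S1754.result L hL t ht2 htC).1
  have hCv : centralizer ({(v : G)} : Set G) ≤
      normalizer ((L.map (MulAut.conj g).toMonoidHom : Subgroup G) : Set G) := by
    obtain ⟨w, hw, e⟩ := hvC
    intro c hc
    have hw2 : orderOf w = 2 := by rw [← hv2, ← e]; exact ((MulAut.conj g).orderOf_eq w).symm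
    have h1 : g⁻¹ * c * g ∈ centralizer ({w} : Set G) := by
      rw [mem_centralizer_singleton_iff]
      have h2 := mem_centralizer_singleton_iff.1 hc
      rw [← e, MulEquiv.coe_toMonoidHom, MulAut.conj_apply] at h2
      calc g⁻¹ * c * g * w = g⁻¹ * (c * (g * w * g⁻¹)) * g := by group
        _ = g⁻¹ * ((g * w * g⁻¹) * c) * g := by rw [h2]
        _ = w * (g⁻¹ * c * g) := by group
    have h3 := (Cfsg.Agent.S1754.result L hL w hw2 hw).1 h1
    rw [← map_equiv_normalizer_eq L (MulAut.conj g)]
    exact ⟨_, h3, by simp [mul_assoc]⟩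
  refine ⟨g, t, v, hg, htC, ht2, hvC, hv2, htu, hvN, fun hvc => ?_, hCt, hCv,
    hCv (mem_centralizer_singleton_iff.2 htu)⟩
  refine Nat.not_even_iff_odd.2 (hT.2 g (hN ▸ hg)) (even_iff_two_dvd.2 ?_)
  rw [← hv2]
  exact Subgroup.orderOf_dvd_natCard _ (mem_inf.2 ⟨hvc, hvC⟩)

end Cfsg.Lib.StdMTwelve
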