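import Cfsg.Agent.StdMTwelve.Facts
import Cfsg.Agent.S1754

/-!
A standard subgroup isomorphic to M12, the action of its normalizer on it, and two distinct conjugates of it.
-/

set_option autoImplicit false
set_option linter.style.haveILetI false

namespace Cfsg.Lib.StdMTwelve

open Cfsg Subgroup Cfsg.Lib.Golay

universe u

/-- A standard subgroup with an isomorphism onto M12. -/
structure Std (G : Type u) [Group G] where
  /-- The subgroup. -/
  L : Subgroup G
  /-- The isomorphism. -/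
  e : L ≃* Spor.M12
  /-- It is standard. -/
  std : Cfsg.IsStandardSubgroup L

variable {G : Type u} [Group G]

namespace Std

variable (S : Std G)

/-- The centralizer. -/
def K : Subgroup G := centralizer (S.L : Set G)

/-- The normalizer. -/
def N : Subgroup G := normalizer (S.L : Set G)

theorem N_eq : S.N = normalizer (S.K : Set G) := S.std.2.2.2

theorem K_le_N : S.K ≤ S.N := S.N_eq ▸ le_normalizer

theorem L_le_N : S.L ≤ S.N := le_normalizer

theorem comm {l k : G} (hl : l ∈ S.L) (hk : k ∈ S.K) : l * k = k * l := mem_centralizer_iff.1 hk l hl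

theorem conj_mem_L {n l : G} (hn : n ∈ S.N) (hl : l ∈ S.L) : n * l * n⁻¹ ∈ S.L :=
  (mem_normalizer_iff.1 hn l).1 hl

theorem inv_conj_mem_L {n l : G} (hn : n ∈ S.N) (hl : l ∈ S.L) : n⁻¹ * l * n ∈ S.L := by
  simpa using S.conj_mem_L (inv_mem hn) hl

theorem conj_mem_K {n k : G} (hn : n ∈ S.N) (hk : k ∈ S.K) : n * k * n⁻¹ ∈ S.K :=
  (mem_normalizer_iff.1 (S.N_eq ▸ hn) k).1 hk

theorem eq_one_of_mem {x : G} (hl : x ∈ S.L) (hk : x ∈ S.K) : x = 1 := by
  have h : (S.e ⟨x, hl⟩) ∈ Subgroup.center Spor.M12 := mem_center_iff.2 fun m => by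
    obtain ⟨l, rfl⟩ := S.e.surjective m
    rw [← map_mul, ← map_mul]
    exact congrArg S.e (Subtype.ext (S.comm l.2 hk))
  rw [center_M12_eq_bot, mem_bot, map_eq_one_iff S.e S.e.injective] at h
  exact congrArg Subtype.val h

theorem cent_invol_le [Finite G] {k : G} (hk : k ∈ S.K) (h2 : k * k = 1) (h1 : k ≠ 1) :
    centralizer ({k} : Set G) ≤ S.N :=
  (Cfsg.Agent.S1754.result S.L S.std k (orderOf_eq_prime (by rw [sq, h2]) h1) hk).1

/-- Conjugation by an element of the normalizer, as an automorphism of the subgroup. -/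
def resHom : S.N →* MulAut S.L where
  toFun n :=
    { toFun := fun l => ⟨n * l * (n : G)⁻¹, S.conj_mem_L n.2 l.2⟩
      invFun := fun l => ⟨(n : G)⁻¹ * l * n, S.inv_conj_mem_L n.2 l.2⟩
      left_inv := fun l => Subtype.ext (by simp [mul_assoc])
      right_inv := fun l => Subtype.ext (by simp [mul_assoc])
      map_mul' := fun l l' => Subtype.ext (by simp [mul_assoc]) }
  map_one' := by ext l : 2; simp
  map_mul' a b := MulEquiv.ext fun l => Subtype.ext (by simp [mul_assoc, MulAut.mul_apply])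

/-- The image of the normalizer in the automorphism group of M12. -/
noncomputable def psi : S.N →* autM12 :=
  (autEquiv.symm.toMonoidHom.comp (MulAut.congr S.e).toMonoidHom).comp S.resHom

/-- The image of an element, as a permutation (the identity outside the normalizer). -/
noncomputable def im (n : G) : Equiv.Perm GolayPt :=
  open scoped Classical in if h : n ∈ S.N then (S.psi ⟨n, h⟩ : Equiv.Perm GolayPt) else 1

theorem im_mem (n : G) : S.im n ∈ autM12 := by
  classical
  rw [im]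
  split
  · exact (S.psi _).2
  · exact one_mem _

theorem im_eq {n : G} (hn : n ∈ S.N) : S.im n = (S.psi ⟨n, hn⟩ : Equiv.Perm GolayPt) := by
  classical
  rw [im, dif_pos hn]

theorem im_one : S.im 1 = 1 := by
  rw [S.im_eq (one_mem _), show (⟨1, one_mem _⟩ : S.N) = 1 from rfl, map_one]
  rfl

theorem im_mul {a b : G} (ha : a ∈ S.N) (hb : b ∈ S.N) : S.im (a * b) = S.im a * S.im b := by
  rw [S.im_eq (mul_mem ha hb), S.im_eq ha, S.im_eq hb,
    show (⟨a * b, mul_mem ha hb⟩ : S.N) = ⟨a, ha⟩ * ⟨b, hb⟩ from rfl, map_mul]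
  rfl

theorem im_inv {a : G} (ha : a ∈ S.N) : S.im a⁻¹ = (S.im a)⁻¹ := by
  rw [S.im_eq (inv_mem ha), S.im_eq ha, show (⟨a⁻¹, inv_mem ha⟩ : S.N) = (⟨a, ha⟩ : S.N)⁻¹ from rfl, map_inv]
  rfl

theorem im_pow {a : G} (ha : a ∈ S.N) (n : ℕ) : S.im (a ^ n) = S.im a ^ n := by
  induction n with
  | zero => rw [pow_zero, pow_zero, S.im_one]
  | succ n ih => rw [pow_succ, pow_succ, S.im_mul (pow_mem ha n) ha, ih]

/-- The image realises the conjugation. -/
theorem im_conj {n : G} (hn : n ∈ S.N) (l : S.L) :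
    S.im n * (S.e l : Equiv.Perm GolayPt) * (S.im n)⁻¹ = (S.e ⟨n * l * n⁻¹, S.conj_mem_L hn l.2⟩ : Equiv.Perm GolayPt) := by
  have h : autEquiv (S.psi ⟨n, hn⟩) = MulAut.congr S.e (S.resHom ⟨n, hn⟩) := autEquiv.apply_symm_apply _
  have h2 := congrArg Subtype.val (DFunLike.congr_fun h (S.e l))
  rw [S.im_eq hn, ← autHom_apply]
  refine h2.trans (congrArg Subtype.val ?_)
  show S.e (S.resHom ⟨n, hn⟩ (S.e.symm (S.e l))) = _
  rw [MulEquiv.symm_apply_apply]
  rfl

/-- On the subgroup the image is the isomorphism. -/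
theorem im_L {l : G} (hl : l ∈ S.L) : S.im l = (S.e ⟨l, hl⟩ : Equiv.Perm GolayPt) := by
  have key : S.psi ⟨l, S.L_le_N hl⟩ = ⟨S.e ⟨l, hl⟩, M12_le (S.e ⟨l, hl⟩).2⟩ := by
    apply autEquiv.injective
    rw [show autEquiv (S.psi ⟨l, S.L_le_N hl⟩) = MulAut.congr S.e (S.resHom ⟨l, S.L_le_N hl⟩) from
      autEquiv.apply_symm_apply _]
    refine MulEquiv.ext fun m => ?_
    obtain ⟨a, rfl⟩ := S.e.surjective m
    apply Subtype.ext
    show (S.e (S.resHom ⟨l, S.L_le_N hl⟩ (S.e.symm (S.e a))) : Equiv.Perm GolayPt) =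
      (S.e ⟨l, hl⟩ : Equiv.Perm GolayPt) * (S.e a) * (S.e ⟨l, hl⟩ : Equiv.Perm GolayPt)⁻¹
    rw [MulEquiv.symm_apply_apply, ← InvMemClass.coe_inv, ← Subgroup.coe_mul, ← Subgroup.coe_mul, ← map_inv,
      ← map_mul, ← map_mul]
    rfl
  rw [S.im_eq (S.L_le_N hl), key]

theorem im_L_mem {l : G} (hl : l ∈ S.L) : S.im l ∈ Spor.M12 := by rw [S.im_L hl]; exact (S.e _).2

theorem exists_L {m : Equiv.Perm GolayPt} (hm : m ∈ Spor.M12) : ∃ l ∈ S.L, S.im l = m := by
  refine ⟨(S.e.symm ⟨m, hm⟩ : G), SetLike.coe_mem _, ?_⟩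
  rw [S.im_L (SetLike.coe_mem _), Subtype.coe_eta, MulEquiv.apply_symm_apply]

theorem L_inj {l l' : G} (hl : l ∈ S.L) (hl' : l' ∈ S.L) (h : S.im l = S.im l') : l = l' := by
  rw [S.im_L hl, S.im_L hl'] at h
  exact congrArg Subtype.val (S.e.injective (Subtype.ext h))

theorem im_eq_one {n : G} (hn : n ∈ S.N) : S.im n = 1 ↔ n ∈ S.K := by
  constructor
  · intro h
    refine mem_centralizer_iff.2 fun l hl => ?_
    have h2 := S.im_conj hn ⟨l, hl⟩
    rw [h, one_mul, inv_one, mul_one] at h2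
    have h3 : l = n * l * n⁻¹ := congrArg Subtype.val (S.e.injective (Subtype.ext h2))
    calc l * n = (n * l * n⁻¹) * n := by rw [← h3]
      _ = n * l := by group
  · intro h
    have key : S.psi ⟨n, hn⟩ = 1 := by
      apply autEquiv.injective
      rw [show autEquiv (S.psi ⟨n, hn⟩) = MulAut.congr S.e (S.resHom ⟨n, hn⟩) from autEquiv.apply_symm_apply _,
        map_one]
      refine MulEquiv.ext fun m => ?_
      show S.e (S.resHom ⟨n, hn⟩ (S.e.symm m)) = m
      rw [show S.resHom ⟨n, hn⟩ (S.e.symm m) = S.e.symm m from Subtype.ext (by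
        show n * _ * n⁻¹ = _
        rw [← S.comm (S.e.symm m).2 h, mul_inv_cancel_right]), MulEquiv.apply_symm_apply]
    rw [S.im_eq hn, key]
    rfl

theorem im_K {k : G} (hk : k ∈ S.K) : S.im k = 1 := (S.im_eq_one (S.K_le_N hk)).2 hk

/-- An element of the subgroup commutes with an element of the normalizer when the images commute. -/
theorem comm_of_im {n l : G} (hn : n ∈ S.N) (hl : l ∈ S.L) (h : S.im n * S.im l = S.im l * S.im n) :
    n * l = l * n := by
  refine mul_inv_eq_iff_eq_mul.1 (S.L_inj (S.conj_mem_L hn hl) hl ?_)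
  rw [S.im_mul (mul_mem hn (S.L_le_N hl)) (inv_mem hn), S.im_mul hn (S.L_le_N hl), S.im_inv hn, h,
    mul_inv_cancel_right]

theorem im_comm {a b : G} (ha : a ∈ S.N) (hb : b ∈ S.N) (h : a * b = b * a) :
    S.im a * S.im b = S.im b * S.im a := by rw [← S.im_mul ha hb, h, S.im_mul hb ha]

/-- The elements of M12 centralising the image come from the centralizer in the subgroup. -/
theorem exists_centM {n : G} (hn : n ∈ S.N) {m : Equiv.Perm GolayPt} (hm : m ∈ centM (S.im n)) :
    ∃ l ∈ S.L, S.im l = m ∧ l * n = n * l := by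
  obtain ⟨l, hl, rfl⟩ := S.exists_L (mem_centM.1 hm).1
  exact ⟨l, hl, rfl, (S.comm_of_im hn hl (mem_centM.1 hm).2.symm).symm⟩

/-- The subgroup is simple. -/
theorem simple : IsSimpleGroup S.L :=
  haveI := isSimple_M12
  S.e.isSimpleGroup

/-- A conjugate. -/
noncomputable def conj (g : G) : Std G where
  L := S.L.map (MulAut.conj g).toMonoidHom
  e := (S.L.equivMapOfInjective (MulAut.conj g).toMonoidHom (MulAut.conj g).injective).symm.trans S.e
  std := by
    obtain ⟨hq, ⟨hev, hti⟩, hc, hn⟩ := S.std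
    set f := MulAut.conj g
    have hK : centralizer ((S.L.map f.toMonoidHom : Subgroup G) : Set G) =
        (centralizer (S.L : Set G)).map f.toMonoidHom := by
      ext x
      rw [mem_map_equiv, mem_centralizer_iff, mem_centralizer_iff]
      constructor
      · intro h l hl
        have h2 := congrArg f.symm (h (f l) (mem_map_of_mem _ hl))
        rwa [map_mul, map_mul, MulEquiv.symm_apply_apply] at h2
      · rintro h _ ⟨l, hl, rfl⟩
        have h2 := congrArg f (h l hl)
        rwa [map_mul, map_mul, MulEquiv.apply_symm_apply] at h2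
    have hmm : ∀ (H : Subgroup G) (a : G), (H.map f.toMonoidHom).map (MulAut.conj (f a)).toMonoidHom =
        (H.map (MulAut.conj a).toMonoidHom).map f.toMonoidHom := by
      intro H a
      rw [map_map, map_map]
      congr 1
      ext x
      simp [MulAut.conj_apply]
    refine ⟨(Cfsg.Lib.Components.isQuasisimple_congr (S.L.equivMapOfInjective _ f.injective)).1 hq,
      ⟨?_, ?_⟩, ?_, ?_⟩
    · rw [hK, card_map_of_injective f.injective]
      exact hev
    · intro a ha
      obtain ⟨b, rfl⟩ := f.surjective a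
      rw [hK, hmm, ← map_inf _ _ _ f.injective, card_map_of_injective f.injective]
      refine hti b fun hb => ha ?_
      rw [hK, ← map_equiv_normalizer_eq]
      exact mem_map_of_mem _ hb
    · intro a ha
      obtain ⟨b, rfl⟩ := f.surjective a
      rw [hmm, ← map_commutator, Ne, (map_injective f.injective).eq_iff' (map_bot _)]
      exact hc b fun hb => ha (by rw [hmm, hb])
    · rw [hK, ← map_equiv_normalizer_eq, ← map_equiv_normalizer_eq, hn]

theorem conj_L (g : G) : (S.conj g).L = S.L.map (MulAut.conj g).toMonoidHom := rfl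

theorem mem_conj_K {g x : G} (hx : x ∈ S.K) : g * x * g⁻¹ ∈ (S.conj g).K := by
  refine mem_centralizer_iff.2 ?_
  rintro _ ⟨l, hl, rfl⟩
  show g * l * g⁻¹ * (g * x * g⁻¹) = g * x * g⁻¹ * (g * l * g⁻¹)
  rw [conj_mul, conj_mul, S.comm hl hx]

theorem conj_K_le (g : G) : (S.conj g).K ≤ S.K.map (MulAut.conj g).toMonoidHom := fun x hx => by
  refine ⟨g⁻¹ * x * g, mem_centralizer_iff.2 fun l hl => ?_, by simp [mul_assoc]⟩
  have h : g * l * g⁻¹ * x = x * (g * l * g⁻¹) := mem_centralizer_iff.1 hx _ ⟨l, hl, rfl⟩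
  calc l * (g⁻¹ * x * g) = g⁻¹ * (g * l * g⁻¹ * x) * g := by group
    _ = g⁻¹ * x * g * l := by rw [h]; group

/-- Two different conjugates. -/
def Apart (T : Std G) : Prop := ∃ g, g ∉ S.N ∧ T.L = S.L.map (MulAut.conj g).toMonoidHom

theorem Apart.symm {T : Std G} (h : S.Apart T) : T.Apart S := by
  obtain ⟨g, hg, hL⟩ := h
  refine ⟨g⁻¹, fun hi => hg ?_, ?_⟩
  · have hi' : g⁻¹ ∈ normalizer ((S.L.map (MulAut.conj g).toMonoidHom : Subgroup G) : Set G) := hL ▸ hi
    rw [← map_equiv_normalizer_eq] at hi'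
    obtain ⟨n, hn, he⟩ := hi'
    have e : g * n * g⁻¹ = g⁻¹ := he
    have : n = g⁻¹ := by
      calc n = g⁻¹ * (g * n * g⁻¹) * g := by group
        _ = g⁻¹ := by rw [e]; group
    exact inv_mem_iff.1 (this ▸ hn)
  · rw [hL, map_map]
    conv_lhs => rw [← map_id S.L]
    congr 1
    ext x
    simp [mul_assoc]

theorem Apart.K_eq {T : Std G} {g : G} (hL : T.L = S.L.map (MulAut.conj g).toMonoidHom) :
    T.K = S.K.map (MulAut.conj g).toMonoidHom := by
  have h : T.K = (S.conj g).K := by rw [K, K, hL, conj_L]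
  refine le_antisymm (h ▸ S.conj_K_le g) ?_
  rintro _ ⟨x, hx, rfl⟩
  exact h ▸ S.mem_conj_K hx

theorem Apart.odd {T : Std G} (h : S.Apart T) : Odd (Nat.card ↥(S.K ⊓ T.K)) := by
  obtain ⟨g, hg, hL⟩ := h
  rw [Apart.K_eq S hL]
  exact S.std.2.1.2 g (fun hn => hg (S.N_eq ▸ hn))

theorem Apart.L_not_le {T : Std G} (h : S.Apart T) : ¬ S.L ≤ T.K := by
  obtain ⟨g, hg, hL⟩ := h
  intro hle
  refine S.std.2.2.1 g (fun e => hg (mem_normalizer_iff.2 fun x => ?_)) ?_
  · constructor
    · exact fun hx => e ▸ mem_map_of_mem (MulAut.conj g).toMonoidHom hx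
    · intro hx
      rw [← e] at hx
      obtain ⟨y, hy, hye⟩ := hx
      have : y = x := (MulAut.conj g).injective hye
      exact this ▸ hy
  · refine commutator_eq_bot_iff_le_centralizer.2 ?_
    rw [← hL]
    exact hle

/-- An element of finite two-power order in two centralizers is trivial. -/
theorem Apart.eq_one_of_two {T : Std G} (h : S.Apart T) {x : G} (hS : x ∈ S.K) (hT : x ∈ T.K) {n : ℕ}
    (hx : x ^ 2 ^ n = 1) : x = 1 := by
  obtain ⟨i, -, hi⟩ := (Nat.dvd_prime_pow Nat.prime_two).1 (orderOf_dvd_of_pow_eq_one hx)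
  have hd := orderOf_dvd_natCard _ (mem_inf.2 ⟨hS, hT⟩)
  rcases Nat.eq_zero_or_pos i with rfl | hpos
  · exact orderOf_eq_one_iff.1 (by rw [hi, pow_zero])
  · exfalso
    refine Nat.not_even_iff_odd.2 (Apart.odd S h) (even_iff_two_dvd.2 (dvd_trans ?_ hd))
    rw [hi]
    exact dvd_pow_self 2 hpos.ne'

end Std

end Cfsg.Lib.StdMTwelve
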