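import Cfsg.Agent.StdMTwelve.PairBasic

/-!
Two commuting involutions in the centralizers of two different standard subgroups isomorphic to M12: neither
centralizer contains a commuting four-group or an element of order four.
-/

set_option autoImplicit false
set_option linter.style.haveILetI false

namespace Cfsg.Lib.StdMTwelve

open Cfsg Subgroup Cfsg.Lib.Golay

universe u

variable {G : Type u} [Group G]

/-- Commuting involutions in the centralizers of two different conjugates. -/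
structure Pair (S T : Std G) (t u : G) : Prop where
  apart : S.Apart T
  t_mem : t ∈ S.K
  t_sq : t * t = 1
  t_ne : t ≠ 1
  u_mem : u ∈ T.K
  u_sq : u * u = 1
  u_ne : u ≠ 1
  comm : t * u = u * t

namespace Std

variable (S : Std G)

/-- The image of a subgroup. -/
noncomputable def imGrp (H : Subgroup G) : Subgroup (Equiv.Perm GolayPt) :=
  (H.subgroupOf S.N).map (autM12.subtype.comp S.psi)

theorem mem_imGrp {H : Subgroup G} {m : Equiv.Perm GolayPt} :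
    m ∈ S.imGrp H ↔ ∃ n ∈ H, n ∈ S.N ∧ S.im n = m := by
  rw [imGrp, Subgroup.mem_map]
  constructor
  · rintro ⟨n, hn, rfl⟩
    exact ⟨n, hn, n.2, S.im_eq n.2⟩
  · rintro ⟨n, hn, hnN, rfl⟩
    exact ⟨⟨n, hnN⟩, hn, (S.im_eq hnN).symm⟩

end Std

variable [Finite G] {S T : Std G} {t u : G}

theorem Pair.symm (p : Pair S T t u) : Pair T S u t :=
  ⟨Std.Apart.symm S p.apart, p.u_mem, p.u_sq, p.u_ne, p.t_mem, p.t_sq, p.t_ne, p.comm.symm⟩

/-- The part of the second centralizer commuting with the involution of the first. -/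
def xGrp (T : Std G) (t : G) : Subgroup G := T.K ⊓ centralizer {t}

theorem mem_xGrp {T : Std G} {t x : G} : x ∈ xGrp T t ↔ x ∈ T.K ∧ x * t = t * x := by
  rw [xGrp, mem_inf, mem_centralizer_singleton_iff]

namespace Pair

theorem x_le_N (p : Pair S T t u) {x : G} (hx : x ∈ xGrp T t) : x ∈ S.N :=
  S.cent_invol_le p.t_mem p.t_sq p.t_ne (mem_centralizer_singleton_iff.2 (mem_xGrp.1 hx).2)

theorem u_mem_x (p : Pair S T t u) : u ∈ xGrp T t := mem_xGrp.2 ⟨p.u_mem, p.comm.symm⟩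

/-- Two-elements of the part are faithful on the image. -/
theorem im_ne_one (p : Pair S T t u) {x : G} (hx : x ∈ xGrp T t) {n : ℕ} (h2 : x ^ 2 ^ n = 1) (h1 : x ≠ 1) :
    S.im x ≠ 1 := fun h =>
  h1 (Std.Apart.eq_one_of_two S p.apart ((S.im_eq_one (p.x_le_N hx)).1 h) (mem_xGrp.1 hx).1 h2)

theorem isInv_im (p : Pair S T t u) {x : G} (hx : x ∈ xGrp T t) (h2 : x * x = 1) (h1 : x ≠ 1) :
    IsInv (S.im x) := by
  refine ⟨S.im_mem x, ?_, p.im_ne_one hx (n := 1) (by rw [pow_one, sq, h2]) h1⟩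
  rw [← S.im_mul (p.x_le_N hx) (p.x_le_N hx), h2, S.im_one]

/-- Elements of the subgroup centralising an involution of the part normalise the part. -/
theorem conj_mem_x (p : Pair S T t u) {x c y : G} (hx : x ∈ xGrp T t) (h2 : x * x = 1) (h1 : x ≠ 1)
    (hc : c ∈ S.L) (hcx : c * x = x * c) (hy : y ∈ xGrp T t) : c * y * c⁻¹ ∈ xGrp T t := by
  have hcN : c ∈ T.N := T.cent_invol_le (mem_xGrp.1 hx).1 h2 h1 (mem_centralizer_singleton_iff.2 hcx)
  obtain ⟨hy1, hy2⟩ := mem_xGrp.1 hy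
  refine mem_xGrp.2 ⟨T.conj_mem_K hcN hy1, ?_⟩
  have hct : c * t = t * c := S.comm hc p.t_mem
  exact Commute.mul_left (Commute.mul_left hct hy2) (Commute.inv_left hct)

/-- When the meet has odd order the part centralises involution centralisers. -/
theorem comm_of_odd (p : Pair S T t u) (hodd : Odd (Nat.card ↥(S.L ⊓ T.K))) {x y c : G} (hx : x ∈ xGrp T t)
    (h2 : x * x = 1) (h1 : x ≠ 1) (hy : y ∈ xGrp T t) (hyx : y * x = x * y) (hc : c ∈ S.L)
    (hcx : c * x = x * c) : c * y = y * c := by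
  set Q := S.L ⊓ T.K ⊓ centralizer ({x} : Set G) with hQdef
  have hxN := p.x_le_N hx
  have hle : S.imGrp Q ≤ centM (S.im x) := by
    intro m hm
    obtain ⟨n, hn, hnN, rfl⟩ := S.mem_imGrp.1 hm
    exact mem_centM.2 ⟨S.im_L_mem hn.1.1, S.im_comm hnN hxN (mem_centralizer_singleton_iff.1 hn.2)⟩
  have hnorm : ∀ a ∈ centM (S.im x), ∀ q ∈ S.imGrp Q, a * q * a⁻¹ ∈ S.imGrp Q := by
    intro a ha q hq
    obtain ⟨l, hl, rfl, hlx⟩ := S.exists_centM hxN ha
    obtain ⟨n, hn, hnN, rfl⟩ := S.mem_imGrp.1 hq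
    have hlN := S.L_le_N hl
    refine S.mem_imGrp.2 ⟨l * n * l⁻¹, mem_inf.2 ⟨mem_inf.2 ⟨mul_mem (mul_mem hl hn.1.1) (inv_mem hl), ?_⟩, ?_⟩,
      mul_mem (mul_mem hlN hnN) (inv_mem hlN), by
        rw [S.im_mul (mul_mem hlN hnN) (inv_mem hlN), S.im_mul hlN hnN, S.im_inv hlN]⟩
    · exact T.conj_mem_K (T.cent_invol_le (mem_xGrp.1 hx).1 h2 h1 (mem_centralizer_singleton_iff.2 hlx)) hn.1.2
    · exact mem_centralizer_singleton_iff.2 (Commute.mul_left (Commute.mul_left hlx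
        (mem_centralizer_singleton_iff.1 hn.2)) (Commute.inv_left hlx))
  have hoddQ : Odd (Nat.card (S.imGrp Q)) := by
    refine hodd.of_dvd_nat ((card_map_dvd (Q.subgroupOf S.N) _).trans ?_)
    rw [Nat.card_congr (subgroupOfEquivOfLe (inf_le_left.trans (inf_le_left.trans S.L_le_N))).toEquiv]
    exact card_dvd_of_le inf_le_left
  have hcN : c ∈ T.N := T.cent_invol_le (mem_xGrp.1 hx).1 h2 h1 (mem_centralizer_singleton_iff.2 hcx)
  have hyN := p.x_le_N hy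
  have hq : c * y * c⁻¹ * y⁻¹ ∈ Q := by
    refine mem_inf.2 ⟨mem_inf.2 ⟨?_, ?_⟩, ?_⟩
    · rw [show c * y * c⁻¹ * y⁻¹ = c * (y * c⁻¹ * y⁻¹) by group]
      exact mul_mem hc (S.conj_mem_L hyN (inv_mem hc))
    · exact mul_mem (T.conj_mem_K hcN (mem_xGrp.1 hy).1) (inv_mem (mem_xGrp.1 hy).1)
    · exact mem_centralizer_singleton_iff.2
        (Commute.mul_left (Commute.mul_left (Commute.mul_left hcx hyx) (Commute.inv_left hcx)) (Commute.inv_left hyx))
  have hone := odd_normal_eq_one (p.isInv_im hx h2 h1) hle hnorm hoddQ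
    (S.mem_imGrp.2 ⟨_, hq, S.L_le_N hq.1.1, rfl⟩)
  have h : c * y * c⁻¹ * y⁻¹ = 1 :=
    S.L_inj hq.1.1 (one_mem _) (hone.trans S.im_one.symm)
  calc c * y = c * y * c⁻¹ * y⁻¹ * (y * c) := by group
    _ = y * c := by rw [h, one_mul]

theorem cent_le_of_odd (p : Pair S T t u) (hodd : Odd (Nat.card ↥(S.L ⊓ T.K))) {x y : G} (hx : x ∈ xGrp T t)
    (h2 : x * x = 1) (h1 : x ≠ 1) (hy : y ∈ xGrp T t) (hyx : y * x = x * y) :
    centM (S.im x) ≤ centM (S.im y) := by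
  intro m hm
  obtain ⟨l, hl, rfl, hlx⟩ := S.exists_centM (p.x_le_N hx) hm
  exact mem_centM.2 ⟨S.im_L_mem hl,
    S.im_comm (S.L_le_N hl) (p.x_le_N hy) (p.comm_of_odd hodd hx h2 h1 hy hyx hl hlx)⟩

/-- The meet has an involution or odd order. -/
theorem meet_cases : Odd (Nat.card ↥(S.L ⊓ T.K)) ∨ ∃ v, v ∈ S.L ∧ v ∈ T.K ∧ v * v = 1 ∧ v ≠ 1 := by
  rcases Nat.even_or_odd (Nat.card ↥(S.L ⊓ T.K)) with h | h
  · haveI : Fact (Nat.Prime 2) := ⟨Nat.prime_two⟩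
    obtain ⟨v, hv⟩ := exists_prime_orderOf_dvd_card' (G := ↥(S.L ⊓ T.K)) 2 h.two_dvd
    refine Or.inr ⟨v, v.2.1, v.2.2, ?_, fun e => ?_⟩
    · have := pow_orderOf_eq_one v
      rw [hv, sq] at this
      exact congrArg Subtype.val this
    · rw [OneMemClass.coe_eq_one.1 e, orderOf_one] at hv
      norm_num at hv
  · exact Or.inl h

theorem mem_x_of_meet (p : Pair S T t u) {v : G} (hL : v ∈ S.L) (hK : v ∈ T.K) : v ∈ xGrp T t :=
  mem_xGrp.2 ⟨hK, S.comm hL p.t_mem⟩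

theorem im_inner_of_meet (p : Pair S T t u) {v : G} (hL : v ∈ S.L) (hK : v ∈ T.K) (h2 : v * v = 1) (h1 : v ≠ 1) :
    S.im v ∈ Spor.M12 ∧ S.im v * S.im v = 1 ∧ S.im v ≠ 1 :=
  ⟨S.im_L_mem hL, (p.isInv_im (p.mem_x_of_meet hL hK) h2 h1).2⟩

/-- An involution in the meet: the normalizer of the second centralizer meets the subgroup in its centraliser. -/
theorem meet_comm (p : Pair S T t u) {v : G} (hL : v ∈ S.L) (hK : v ∈ T.K) (h2 : v * v = 1) (h1 : v ≠ 1) {c : G}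
    (hc : c ∈ S.L) (hcT : c ∈ T.N) : c * v = v * c := by
  obtain ⟨hvm, hv2, hv1⟩ := p.im_inner_of_meet hL hK h2 h1
  have hM : S.imGrp (S.L ⊓ T.N) ≤ Spor.M12 := fun m hm => by
    obtain ⟨n, hn, -, rfl⟩ := S.mem_imGrp.1 hm
    exact S.im_L_mem hn.1
  have hle : centM (S.im v) ≤ S.imGrp (S.L ⊓ T.N) := fun m hm => by
    obtain ⟨l, hl, rfl, hlv⟩ := S.exists_centM (S.L_le_N hL) hm
    exact S.mem_imGrp.2 ⟨l, ⟨hl, T.cent_invol_le hK h2 h1 (mem_centralizer_singleton_iff.2 hlv)⟩, S.L_le_N hl, rfl⟩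
  rcases cent_maximal hvm hv2 hv1 hM hle with h | h
  · have hm : S.im c ∈ centM (S.im v) := h ▸ S.mem_imGrp.2 ⟨c, ⟨hc, hcT⟩, S.L_le_N hc, rfl⟩
    exact S.comm_of_im (S.L_le_N hc) hL (mem_centM.1 hm).2
  · exfalso
    have hall : S.L ≤ T.N := fun l hl => by
      obtain ⟨n, hn, -, hne⟩ := S.mem_imGrp.1 (h.symm ▸ S.im_L_mem hl)
      exact S.L_inj hn.1 hl hne ▸ hn.2
    haveI := S.simple
    have hn : (T.K.subgroupOf S.L).Normal :=
      ⟨fun a ha b => T.conj_mem_K (hall b.2) ha⟩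
    rcases hn.eq_bot_or_eq_top with hb | hb
    · have h3 : (⟨v, hL⟩ : S.L) ∈ T.K.subgroupOf S.L := hK
      rw [hb, mem_bot] at h3
      exact h1 (congrArg Subtype.val h3)
    · exact Std.Apart.L_not_le S p.apart (subgroupOf_eq_top.1 hb)

theorem cent_le_meet (p : Pair S T t u) {v : G} (hL : v ∈ S.L) (hK : v ∈ T.K) (h2 : v * v = 1) (h1 : v ≠ 1)
    {x : G} (hx : x ∈ T.K) (hxN : x ∈ S.N) (hx2 : x * x = 1) (hx1 : x ≠ 1) :
    centM (S.im x) ≤ centM (S.im v) := by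
  intro m hm
  obtain ⟨l, hl, rfl, hlx⟩ := S.exists_centM hxN hm
  exact mem_centM.2 ⟨S.im_L_mem hl, S.im_comm (S.L_le_N hl) (S.L_le_N hL)
    (p.meet_comm hL hK h2 h1 hl (T.cent_invol_le hx hx2 hx1 (mem_centralizer_singleton_iff.2 hlx)))⟩

/-- The part centralises the involution of the meet. -/
theorem x_comm_meet (p : Pair S T t u) {v : G} (hL : v ∈ S.L) (hK : v ∈ T.K) (h2 : v * v = 1) (h1 : v ≠ 1) {n : G}
    (hn : n ∈ xGrp T t) : n * v = v * n := by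
  have hnN := p.x_le_N hn
  have hL' := S.conj_mem_L hnN hL
  have hK' : n * v * n⁻¹ ∈ T.K := mul_mem (mul_mem (mem_xGrp.1 hn).1 hK) (inv_mem (mem_xGrp.1 hn).1)
  have h2' : n * v * n⁻¹ * (n * v * n⁻¹) = 1 := by rw [conj_mul, h2]; simp
  have h1' : n * v * n⁻¹ ≠ 1 := fun e => h1 (conj_eq_one_iff.1 e)
  obtain ⟨a, b, c⟩ := p.im_inner_of_meet hL hK h2 h1
  obtain ⟨a', b', c'⟩ := p.im_inner_of_meet hL' hK' h2' h1'
  exact mul_inv_eq_iff_eq_mul.1 (S.L_inj hL' hL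
    (inner_eq_of_cent_le a' b' c' a b c (p.cent_le_meet hL hK h2 h1 hK' (S.L_le_N hL') h2' h1')))

/-- The only involution of the part with inner image is that of the meet. -/
theorem eq_meet_of_inner (p : Pair S T t u) {v : G} (hL : v ∈ S.L) (hK : v ∈ T.K) (h2 : v * v = 1) (h1 : v ≠ 1)
    {x : G} (hx : x ∈ xGrp T t) (hx2 : x * x = 1) (hx1 : x ≠ 1) (hin : S.im x ∈ Spor.M12) : x = v := by
  obtain ⟨a, b, c⟩ := p.im_inner_of_meet hL hK h2 h1
  obtain ⟨-, b', c'⟩ := p.isInv_im hx hx2 hx1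
  have he := inner_eq_of_cent_le hin b' c' a b c (p.cent_le_meet hL hK h2 h1 (mem_xGrp.1 hx).1 (p.x_le_N hx) hx2 hx1)
  have hv := p.mem_x_of_meet hL hK
  by_contra hne
  refine p.im_ne_one (mul_mem hx hv) (n := 1) ?_ (fun e => hne ?_) ?_
  · rw [pow_one, sq, Commute.mul_mul_mul_comm (p.x_comm_meet hL hK h2 h1 hx).symm, hx2, h2, one_mul]
  · rw [eq_inv_of_mul_eq_one_left e, inv_eq_of_mul_eq_one_right h2]
  · rw [S.im_mul (p.x_le_N hx) (p.x_le_N hv), he, b]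

/-- Inner images are those of squares. -/
theorem im_sq_inner (p : Pair S T t u) {y : G} (hy : y ∈ xGrp T t) : S.im (y * y) ∈ Spor.M12 := by
  rw [S.im_mul (p.x_le_N hy) (p.x_le_N hy)]
  by_cases hm : S.im y ∈ Spor.M12
  · exact mul_mem hm hm
  · exact mul_mem_M12 (S.im_mem y) (S.im_mem y) hm hm

/-- An involution of the image lifts to one of the part. -/
theorem lift_invol (p : Pair S T t u) {q : Equiv.Perm GolayPt} (hq : q ∈ S.imGrp (xGrp T t)) (h2 : q * q = 1)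
    (h1 : q ≠ 1) : ∃ x ∈ xGrp T t, x * x = 1 ∧ x ≠ 1 ∧ S.im x = q := by
  obtain ⟨x, hx, hxN, rfl⟩ := S.mem_imGrp.1 hq
  have hk : x * x ∈ S.K := (S.im_eq_one (mul_mem hxN hxN)).1 (by rw [S.im_mul hxN hxN, h2])
  have hkT : x * x ∈ T.K := mul_mem (mem_xGrp.1 hx).1 (mem_xGrp.1 hx).1
  set d := Nat.card ↥(S.K ⊓ T.K)
  have hd : (x * x) ^ d = 1 := by
    have := pow_card_eq_one' (x := (⟨x * x, mem_inf.2 ⟨hk, hkT⟩⟩ : ↥(S.K ⊓ T.K)))
    exact congrArg Subtype.val this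
  obtain ⟨k, hk2⟩ := Std.Apart.odd S p.apart
  have him : S.im (x ^ d) = S.im x := by
    rw [S.im_pow hxN, show d = 2 * k + 1 from hk2, pow_succ, pow_mul, sq, h2, one_pow, one_mul]
  refine ⟨x ^ d, pow_mem hx _, ?_, fun e => h1 ?_, him⟩
  · rw [← (Commute.refl x).mul_pow, hd]
  · rw [← him, e, S.im_one]

/-- An element of order four: the meet is even and the image centralises no element of order three. -/
theorem order_four_struct (p : Pair S T t u) {y : G} (hy : y ∈ xGrp T t) (h4 : y ^ 4 = 1) (hy2 : y * y ≠ 1) :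
    y * y ∈ S.L ∧ ∀ c ∈ centM (S.im (y * y)), c * c * c = 1 → c * S.im y = S.im y * c → c = 1 := by
  set x := y * y
  have hx : x ∈ xGrp T t := mul_mem hy hy
  have hx2 : x * x = 1 := by rw [← h4]; simp only [x, pow_succ, pow_zero, one_mul, mul_assoc]
  have hyx : y * x = x * y := by simp only [x, mul_assoc]
  obtain ⟨-, hi2, hi1⟩ := p.isInv_im hx hx2 hy2
  have hsq : S.im y * S.im y = S.im x := (S.im_mul (p.x_le_N hy) (p.x_le_N hy)).symm
  rcases meet_cases (S := S) (T := T) with hodd | ⟨v, hL, hK, h2, h1⟩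
  · obtain ⟨c, hc, hne⟩ := sqrt_moves (S.im_mem y) hsq hi2 hi1
    exact absurd (mem_centM.1 (p.cent_le_of_odd hodd hx hx2 hy2 hy hyx hc)).2 hne
  have hxv : x = v := p.eq_meet_of_inner hL hK h2 h1 hx hx2 hy2 (p.im_sq_inner hy)
  refine ⟨hxv ▸ hL, ?_⟩
  rcases sqrt_cases (S.im_mem y) hsq hi2 hi1 with ⟨q, hq, hqm, hq2, hq1, hqx⟩ | h
  · exfalso
    have hle : closure (conjSet (centM (S.im x)) (S.im y)) ≤ S.imGrp (xGrp T t) := by
      rw [closure_le]
      rintro _ ⟨c, hc, rfl⟩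
      obtain ⟨l, hl, rfl, hlx⟩ := S.exists_centM (p.x_le_N hx) hc
      have hmem := p.conj_mem_x hx hx2 hy2 hl hlx hy
      refine S.mem_imGrp.2 ⟨_, hmem, p.x_le_N hmem, ?_⟩
      rw [S.im_mul (mul_mem (S.L_le_N hl) (p.x_le_N hy)) (inv_mem (S.L_le_N hl)),
        S.im_mul (S.L_le_N hl) (p.x_le_N hy), S.im_inv (S.L_le_N hl)]
    obtain ⟨z, hz, hz2, hz1, rfl⟩ := p.lift_invol (hle hq) hq2 hq1
    exact hqx (by rw [p.eq_meet_of_inner hL hK h2 h1 hz hz2 hz1 hqm, hxv])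
  · exact h

/-- The part has no element of order four. -/
theorem no_order_four (p : Pair S T t u) {y : G} (hy : y ∈ xGrp T t) (h4 : y ^ 4 = 1) : y * y = 1 := by
  by_contra hy2
  obtain ⟨hL, -⟩ := p.order_four_struct hy h4 hy2
  set v := y * y
  have hyT := (mem_xGrp.1 hy).1
  have hK : v ∈ T.K := mul_mem hyT hyT
  have h2 : v * v = 1 := by rw [← h4]; simp only [v, pow_succ, pow_zero, one_mul, mul_assoc]
  obtain ⟨g, -, hTL⟩ := p.apart
  rw [Std.Apart.K_eq S hTL] at hyT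
  obtain ⟨y', hy', he⟩ := hyT
  have hy'v : y' * v = v * y' := (S.comm hL hy').symm
  have q : Pair T S v t := ⟨Std.Apart.symm S p.apart, hK, h2, hy2, p.t_mem, p.t_sq, p.t_ne, S.comm hL p.t_mem⟩
  have hy'x : y' ∈ xGrp S v := mem_xGrp.2 ⟨hy', hy'v⟩
  have hy'4 : y' ^ 4 = 1 := by
    apply (MulAut.conj g).injective
    rw [map_pow, map_one, show MulAut.conj g y' = y from he, h4]
  have hy'2 : y' * y' ≠ 1 := fun e => hy2 (by
    show y * y = 1
    rw [← he, ← map_mul, e, map_one])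
  obtain ⟨-, hno⟩ := q.order_four_struct hy'x hy'4 hy'2
  have hvN : v ∈ S.N := S.L_le_N hL
  obtain ⟨hvm, hv2, hv1⟩ := p.im_inner_of_meet hL hK h2 hy2
  obtain ⟨a, ha, b, hb, ha3, hb3, r, hr, hr2, hr1, hrv⟩ := three_gen_inner hvm hv2 hv1
  have hJ : ∀ m ∈ centM (S.im v), m * m * m = 1 → m ∈ S.imGrp (S.L ⊓ T.K) := by
    intro m hm hm3
    obtain ⟨l, hl, rfl, hlv⟩ := S.exists_centM hvN hm
    have hlT : l ∈ T.N := T.cent_invol_le hK h2 hy2 (mem_centralizer_singleton_iff.2 hlv)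
    have hly : l * y' = y' * l := S.comm hl hy'
    have hy'N := q.x_le_N hy'x
    have hl3 : l * l * l = 1 := S.L_inj (mul_mem (mul_mem hl hl) hl) (one_mem _) (by
      rw [S.im_mul (mul_mem (S.L_le_N hl) (S.L_le_N hl)) (S.L_le_N hl), S.im_mul (S.L_le_N hl) (S.L_le_N hl),
        hm3, S.im_one])
    have hinner : T.im l ∈ Spor.M12 := by
      by_contra hn
      have h3 : T.im l * T.im l * T.im l = 1 := by
        rw [← T.im_mul hlT hlT, ← T.im_mul (mul_mem hlT hlT) hlT, hl3, T.im_one]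
      have hsq := mul_mem_M12 (T.im_mem l) (T.im_mem l) hn hn
      exact hn (by rw [eq_inv_of_mul_eq_one_right h3]; exact inv_mem hsq)
    have hc := T.im_comm hlT (mul_mem hy'N hy'N) (Commute.mul_right hly hly)
    have hone := hno (T.im l) (mem_centM.2 ⟨hinner, hc⟩)
      (by rw [← T.im_mul hlT hlT, ← T.im_mul (mul_mem hlT hlT) hlT, hl3, T.im_one]) (T.im_comm hlT hy'N hly)
    exact S.mem_imGrp.2 ⟨l, ⟨hl, (T.im_eq_one hlT).1 hone⟩, S.L_le_N hl, rfl⟩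
  have hle : closure ({a, b} : Set (Equiv.Perm GolayPt)) ≤ S.imGrp (S.L ⊓ T.K) := by
    rw [closure_le]
    rintro _ (rfl | rfl)
    · exact hJ _ ha ha3
    · exact hJ _ hb hb3
  obtain ⟨n, hn, hnN, rfl⟩ := S.mem_imGrp.1 (hle hr)
  have hn2 : n * n = 1 := S.L_inj (mul_mem hn.1 hn.1) (one_mem _) (by rw [S.im_mul hnN hnN, hr2, S.im_one])
  have hn1 : n ≠ 1 := fun e => hr1 (by rw [e, S.im_one])
  exact hrv (by rw [p.eq_meet_of_inner hL hK h2 hy2 (p.mem_x_of_meet hn.1 hn.2) hn2 hn1 (S.im_L_mem hn.1)])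

/-- A commuting four-group: the meet is even, of the larger class, and an image is outer. -/
theorem four_struct (p : Pair S T t u) {x y : G} (hx : x ∈ xGrp T t) (hy : y ∈ xGrp T t) (hx2 : x * x = 1)
    (hx1 : x ≠ 1) (hy2 : y * y = 1) (hy1 : y ≠ 1) (hne : x ≠ y) (hxy : x * y = y * x) :
    ∃ v z, v ∈ S.L ∧ v ∈ T.K ∧ v * v = 1 ∧ v ≠ 1 ∧ Nat.card (centM (S.im v)) = 240 ∧
      z ∈ xGrp T t ∧ z * z = 1 ∧ S.im z ∉ Spor.M12 := by
  have hw2 : x * y * (x * y) = 1 := by rw [Commute.mul_mul_mul_comm hxy.symm, hx2, hy2, one_mul]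
  have hw1 : x * y ≠ 1 := fun e => hne (by rw [eq_inv_of_mul_eq_one_left e, inv_eq_of_mul_eq_one_right hy2])
  have hwx : x * y ∈ xGrp T t := mul_mem hx hy
  obtain ⟨-, ix2, ix1⟩ := p.isInv_im hx hx2 hx1
  obtain ⟨-, iy2, iy1⟩ := p.isInv_im hy hy2 hy1
  obtain ⟨-, iw2, iw1⟩ := p.isInv_im hwx hw2 hw1
  have himw : S.im (x * y) = S.im x * S.im y := S.im_mul (p.x_le_N hx) (p.x_le_N hy)
  rcases meet_cases (S := S) (T := T) with hodd | ⟨v, hL, hK, h2, h1⟩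
  · exfalso
    have key : ∀ {a b : G}, a ∈ xGrp T t → b ∈ xGrp T t → a * a = 1 → a ≠ 1 → b * b = 1 → b ≠ 1 → a * b = b * a →
        a ≠ b → S.im a ∈ Spor.M12 → False := by
      intro a b ha hb ha2 ha1 hb2 hb1 hab hne' hin
      obtain ⟨-, a2, a1⟩ := p.isInv_im ha ha2 ha1
      obtain ⟨bA, b2, b1⟩ := p.isInv_im hb hb2 hb1
      have hle := p.cent_le_of_odd hodd ha ha2 ha1 hb hab.symm
      by_cases hbm : S.im b ∈ Spor.M12
      · have he := inner_eq_of_cent_le hin a2 a1 hbm b2 b1 hle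
        refine p.im_ne_one (mul_mem ha hb) (n := 1)
          (by rw [pow_one, sq, Commute.mul_mul_mul_comm hab.symm, ha2, hb2, one_mul])
          (fun e => hne' (by rw [eq_inv_of_mul_eq_one_left e, inv_eq_of_mul_eq_one_right hb2])) ?_
        rw [S.im_mul (p.x_le_N ha) (p.x_le_N hb), he, b2]
      · exact not_inner_le_outer hin a2 a1 bA hbm b2 hle
    by_cases hxm : S.im x ∈ Spor.M12
    · exact key hx hy hx2 hx1 hy2 hy1 hxy hne hxm
    by_cases hym : S.im y ∈ Spor.M12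
    · exact key hy hx hy2 hy1 hx2 hx1 hxy.symm hne.symm hym
    refine key hwx hx hw2 hw1 hx2 hx1 (by rw [mul_assoc, ← hxy]) (fun e => hy1 (by simpa using e)) ?_
    rw [himw]
    exact mul_mem_M12 (S.im_mem x) (S.im_mem y) hxm hym
  obtain ⟨z, hz, hz2, hz1, hzm⟩ : ∃ z ∈ xGrp T t, z * z = 1 ∧ z ≠ 1 ∧ S.im z ∉ Spor.M12 := by
    by_cases hxm : S.im x ∈ Spor.M12
    · refine ⟨y, hy, hy2, hy1, fun hym => hne ?_⟩
      rw [p.eq_meet_of_inner hL hK h2 h1 hx hx2 hx1 hxm, p.eq_meet_of_inner hL hK h2 h1 hy hy2 hy1 hym]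
    · exact ⟨x, hx, hx2, hx1, hxm⟩
  obtain ⟨a, b, c⟩ := p.im_inner_of_meet hL hK h2 h1
  exact ⟨v, z, hL, hK, h2, h1, card_of_outer_le (S.im_mem z) hzm (p.isInv_im hz hz2 hz1).2.1 a b c
    (p.cent_le_meet hL hK h2 h1 (mem_xGrp.1 hz).1 (p.x_le_N hz) hz2 hz1), hz, hz2, hzm⟩

/-- Commuting involutions of the part are equal. -/
theorem no_four (p : Pair S T t u) {x y : G} (hx : x ∈ xGrp T t) (hy : y ∈ xGrp T t) (hx2 : x * x = 1)
    (hx1 : x ≠ 1) (hy2 : y * y = 1) (hy1 : y ≠ 1) (hxy : x * y = y * x) : x = y := by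
  by_contra hne
  obtain ⟨v, -, hL, hK, h2, h1, h240, -⟩ := p.four_struct hx hy hx2 hx1 hy2 hy1 hne hxy
  obtain ⟨g, -, hTL⟩ := p.apart
  have hxT := (mem_xGrp.1 hx).1
  have hyT := (mem_xGrp.1 hy).1
  rw [Std.Apart.K_eq S hTL] at hxT hyT
  obtain ⟨x', hx', ex⟩ := hxT
  obtain ⟨y', hy', ey⟩ := hyT
  have q : Pair T S v t := ⟨Std.Apart.symm S p.apart, hK, h2, h1, p.t_mem, p.t_sq, p.t_ne, S.comm hL p.t_mem⟩
  have inX : ∀ {k : G}, k ∈ S.K → k ∈ xGrp S v := fun hk => mem_xGrp.2 ⟨hk, (S.comm hL hk).symm⟩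
  have inj : ∀ {a b : G}, MulAut.conj g a = MulAut.conj g b → a = b := fun h => (MulAut.conj g).injective h
  have ex' : MulAut.conj g x' = x := ex
  have ey' : MulAut.conj g y' = y := ey
  obtain ⟨-, z, -, -, -, -, -, hz, hz2, hzm⟩ := q.four_struct (inX hx') (inX hy')
    (inj (by rw [map_mul, map_one, ex', hx2])) (fun e => hx1 (by rw [← ex', e, map_one]))
    (inj (by rw [map_mul, map_one, ey', hy2])) (fun e => hy1 (by rw [← ey', e, map_one]))
    (fun e => hne (by rw [← ex', ← ey', e])) (inj (by rw [map_mul, map_mul, ex', ey', hxy]))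
  obtain ⟨a, b, c⟩ := p.im_inner_of_meet hL hK h2 h1
  obtain ⟨m, hm, hm4, hm2, hmv⟩ := order_four a b c h240
  obtain ⟨l, hl, rfl, hlv⟩ := S.exists_centM (S.L_le_N hL) hm
  have hlN := S.L_le_N hl
  have hlT : l ∈ T.N := T.cent_invol_le hK h2 h1 (mem_centralizer_singleton_iff.2 hlv)
  have hl4 : l * l * (l * l) = 1 := S.L_inj (mul_mem (mul_mem hl hl) (mul_mem hl hl)) (one_mem _) (by
    rw [S.im_mul (mul_mem hlN hlN) (mul_mem hlN hlN), S.im_mul hlN hlN, hm4, S.im_one])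
  have hzN := q.x_le_N hz
  have h30 := exponent_outer (T.im_mem z) hzm
    (by rw [← T.im_mul hzN hzN, hz2, T.im_one]) (T.im_mem l)
    (T.im_comm hlT hzN (S.comm hl (mem_xGrp.1 hz).1))
  rw [← T.im_pow hlT, T.im_eq_one (pow_mem hlT 30)] at h30
  have e : l ^ 30 = l * l := by
    rw [show 30 = 4 * 7 + 2 from rfl, pow_add, pow_mul,
      show l ^ 4 = l * l * (l * l) by simp only [pow_succ, pow_zero, one_mul, mul_assoc], hl4, one_pow, one_mul, sq]
  rw [e] at h30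
  refine hmv ?_
  rw [← S.im_mul hlN hlN]
  refine congrArg S.im (p.eq_meet_of_inner hL hK h2 h1 (p.mem_x_of_meet (mul_mem hl hl) h30) hl4
    (fun e => hm2 ?_) (S.im_L_mem (mul_mem hl hl)))
  rw [← S.im_mul hlN hlN, e, S.im_one]

end Pair

end Cfsg.Lib.StdMTwelve
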