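import Cfsg.Agent.StdMTwelve.PairCases
import Cfsg.Agent.StdMTwelve.Pair

/-!
The centralizer of a standard subgroup isomorphic to M12 in a simple group has order not divisible by four.
-/

set_option autoImplicit false
set_option linter.style.haveILetI false

namespace Cfsg.Lib.StdMTwelve

open Cfsg Subgroup Cfsg.Lib.Golay

universe u

variable {G : Type u} [Group G] [Finite G] {S T : Std G} {t u : G}

namespace Pair

theorem u_mem_N (p : Pair S T t u) : u ∈ S.N := p.x_le_N p.u_mem_x

/-- Two-elements of the first centralizer commuting with the second involution. -/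
theorem cent_small (p : Pair S T t u) {r : G} (hr : r ∈ S.K) (hru : r * u = u * r) (hrt : r * t = t * r) {n : ℕ}
    (hn : r ^ 2 ^ n = 1) : r = 1 ∨ r = t := by
  have hrX : r ∈ xGrp S u := mem_xGrp.2 ⟨hr, hru⟩
  induction n with
  | zero => left; simpa using hn
  | succ n ih =>
    rcases n with _ | m
    · by_cases h1 : r = 1
      · exact Or.inl h1
      · refine Or.inr (p.symm.no_four hrX (mem_xGrp.2 ⟨p.t_mem, p.comm⟩) ?_ h1 p.t_sq p.t_ne hrt)
        rwa [pow_one, sq] at hn
    · refine ih ?_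
      have h4 : (r ^ 2 ^ m) ^ 4 = 1 := by
        rw [← pow_mul, show 2 ^ m * 4 = 2 ^ (m + 1 + 1) by rw [pow_succ, pow_succ, mul_assoc]; rfl]
        exact hn
      have h := p.symm.no_order_four (pow_mem hrX _) h4
      rwa [← sq, ← pow_mul, ← pow_succ] at h

/-- When four divides the order of the centralizer some element of it moves the second involution to the product. -/
theorem exists_swap (p : Pair S T t u) (h4 : 4 ∣ Nat.card S.K) :
    ∃ r ∈ S.K, r * t = t * r ∧ r * u * r⁻¹ = u * t := by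
  haveI : Fact (Nat.Prime 2) := ⟨Nat.prime_two⟩
  have huN := p.u_mem_N
  have hu1 : u⁻¹ = u := inv_eq_of_mul_eq_one_right p.u_sq
  have htu : Commute t u := p.comm
  have huK : u ∉ S.K := fun h =>
    p.u_ne (Std.Apart.eq_one_of_two S p.apart h p.u_mem (n := 1) (by rw [pow_one, sq, p.u_sq]))
  have hcl : ∀ {k : G}, k ∈ S.K → u * k * u ∈ S.K := fun hk => by
    have := S.conj_mem_K huN hk
    rwa [hu1] at this
  let W : Subgroup G :=
    { carrier := {w | w ∈ S.K ∨ w * u ∈ S.K}
      one_mem' := Or.inl (one_mem _)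
      mul_mem' := by
        rintro a b (ha | ha) (hb | hb)
        · exact Or.inl (mul_mem ha hb)
        · exact Or.inr (by rw [mul_assoc]; exact mul_mem ha hb)
        · right
          rw [show a * b * u = a * u * (u⁻¹ * b * u) by group, hu1]
          exact mul_mem ha (hcl hb)
        · left
          rw [show a * b = a * u * (u⁻¹ * (b * u) * u⁻¹) by group, hu1]
          exact mul_mem ha (hcl hb)
      inv_mem' := by
        rintro a (ha | ha)
        · exact Or.inl (inv_mem ha)
        · right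
          rw [show a⁻¹ * u = u * (a * u)⁻¹ * u by rw [mul_inv_rev]; group]
          exact hcl (inv_mem ha) }
  have hKW : S.K ≤ W := fun k hk => Or.inl hk
  have huW : u ∈ W := Or.inr (by rw [p.u_sq]; exact one_mem _)
  have e1 : t * (t * u) = u := by rw [← mul_assoc, p.t_sq, one_mul]
  have e2 : u * t = t * u := p.comm.symm
  have e3 : u * (t * u) = t := by rw [← mul_assoc, e2, mul_assoc, p.u_sq, mul_one]
  have e4 : t * u * t = u := by rw [mul_assoc, e2, e1]
  have e5 : t * u * u = t := by rw [mul_assoc, p.u_sq, mul_one]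
  have e6 : t * u * (t * u) = 1 := by rw [mul_assoc, e3, p.t_sq]
  let V : Subgroup G :=
    { carrier := {1, t, u, t * u}
      one_mem' := by simp
      mul_mem' := by
        intro a b ha hb
        rcases ha with ha | ha | ha | ha <;> rcases hb with hb | hb | hb | hb <;>
          simp [show a = _ from ha, show b = _ from hb, p.t_sq, p.u_sq, e1, e2, e3, e4, e5, e6]
      inv_mem' := by
        intro a ha
        rcases ha with ha | ha | ha | ha <;>
          simp [show a = _ from ha, inv_eq_of_mul_eq_one_right p.t_sq, hu1, e2] }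
  have hV2 : ∀ a ∈ V, a * a = 1 := by
    intro a ha
    rcases ha with ha | ha | ha | ha <;> rw [show a = _ from ha]
    · simp
    · exact p.t_sq
    · exact p.u_sq
    · exact e6
  have hVW : V ≤ W := by
    intro a ha
    rcases ha with ha | ha | ha | ha <;> rw [show a = _ from ha]
    · exact one_mem _
    · exact hKW p.t_mem
    · exact huW
    · exact mul_mem (hKW p.t_mem) huW
  have hpV : IsPGroup 2 (V.subgroupOf W) := fun a => ⟨1, by
    apply Subtype.ext
    apply Subtype.ext
    simpa [sq] using hV2 _ a.2⟩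
  obtain ⟨P, hP⟩ := hpV.exists_le_sylow
  have h8 : 8 ∣ Nat.card (P : Subgroup W) := by
    have hidx : (S.K.subgroupOf W).index = 2 := by
      rw [index_eq_two_iff]
      refine ⟨⟨u, huW⟩, fun b => ?_⟩
      rcases b.2 with hb | hb
      · refine Or.inr ⟨hb, fun h => huK ?_⟩
        have := mul_mem (inv_mem hb) (show (b : G) * u ∈ S.K from h)
        rwa [inv_mul_cancel_left] at this
      · refine Or.inl ⟨hb, fun h => huK ?_⟩
        have := mul_mem (inv_mem (show (b : G) ∈ S.K from h)) hb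
        rwa [inv_mul_cancel_left] at this
    have hW : Nat.card W = 2 * Nat.card S.K := by
      rw [← index_mul_card (S.K.subgroupOf W), hidx, Nat.card_congr (subgroupOfEquivOfLe hKW).toEquiv]
    have : 2 ^ 3 ∣ Nat.card W := by
      rw [hW, show 2 ^ 3 = 2 * 4 from rfl]
      exact mul_dvd_mul_left 2 h4
    exact P.pow_dvd_card_of_pow_dvd_card this
  set Q := (V.subgroupOf W).subgroupOf (P : Subgroup W)
  have hQlt : Q < ⊤ := by
    refine lt_top_iff_ne_top.2 fun e => ?_
    have hc : Nat.card Q ≤ 4 := by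
      classical
      rw [Nat.card_congr (subgroupOfEquivOfLe hP).toEquiv, Nat.card_congr (subgroupOfEquivOfLe hVW).toEquiv]
      calc Nat.card V = ({1, t, u, t * u} : Set G).ncard := Nat.card_coe_set_eq _
        _ ≤ 4 := by
          refine (Set.ncard_insert_le _ _).trans (Nat.succ_le_succ ((Set.ncard_insert_le _ _).trans ?_))
          exact Nat.succ_le_succ ((Set.ncard_insert_le _ _).trans (by rw [Set.ncard_singleton]))
    rw [e, card_top] at hc
    have := Nat.le_of_dvd Nat.card_pos h8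
    omega
  haveI : Group.IsNilpotent (P : Subgroup W) := P.isPGroup'.isNilpotent
  obtain ⟨-, x, hxn, hxQ⟩ := SetLike.lt_iff_le_and_exists.1 (Group.normalizerCondition_of_isNilpotent Q hQlt)
  have hxV : ((x : W) : G) ∉ V := hxQ
  have hnormV : ∀ a ∈ V, ((x : W) : G) * a * ((x : W) : G)⁻¹ ∈ V := fun a ha =>
    (mem_normalizer_iff.1 hxn ⟨⟨a, hVW ha⟩, hP (mem_subgroupOf.2 ha)⟩).1 ha
  have huP : (⟨u, huW⟩ : W) ∈ (P : Subgroup W) := hP (mem_subgroupOf.2 (show u ∈ V from Or.inr (Or.inr (Or.inl rfl))))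
  obtain ⟨y, hyK, hyV, hyn⟩ : ∃ y : (P : Subgroup W), ((y : W) : G) ∈ S.K ∧ ((y : W) : G) ∉ V ∧
      ∀ a ∈ V, ((y : W) : G) * a * ((y : W) : G)⁻¹ ∈ V := by
    rcases (x : W).2 with hx | hx
    · exact ⟨x, hx, hxV, hnormV⟩
    · refine ⟨x * ⟨_, huP⟩, hx, fun h => hxV ?_, fun a ha => ?_⟩
      · have h' : ((x : W) : G) * u ∈ V := h
        have := mul_mem h' (show u ∈ V from Or.inr (Or.inr (Or.inl rfl)))
        rwa [mul_assoc, p.u_sq, mul_one] at this
      · show ((x : W) : G) * u * a * (((x : W) : G) * u)⁻¹ ∈ V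
        have hua : u * a * u⁻¹ = a := by
          rcases ha with ha | ha | ha | ha <;> rw [show a = _ from ha]
          · simp
          · rw [e2, mul_inv_cancel_right]
          · simp
          · rw [e3, hu1]
        rw [show ((x : W) : G) * u * a * (((x : W) : G) * u)⁻¹ = ((x : W) : G) * (u * a * u⁻¹) * ((x : W) : G)⁻¹ by
          group, hua]
        exact hnormV a ha
  set r : G := ((y : W) : G)
  have hrt : r * t = t * r := by
    have hk := mul_mem (mul_mem hyK p.t_mem) (inv_mem hyK)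
    rcases hyn t (Or.inr (Or.inl rfl)) with h | h | h | h
    · exact absurd (conj_eq_one_iff.1 h) p.t_ne
    · exact mul_inv_eq_iff_eq_mul.1 h
    · exact absurd (h ▸ hk) huK
    · refine absurd ?_ huK
      have := mul_mem p.t_mem (h ▸ hk : t * u ∈ S.K)
      rwa [← mul_assoc, p.t_sq, one_mul] at this
  refine ⟨r, hyK, hrt, ?_⟩
  have hnK : ∀ k, k ∈ S.K → r * u * r⁻¹ ≠ k := fun k hk h => huK (by
    have := mul_mem (mul_mem (inv_mem hyK) (h ▸ hk : r * u * r⁻¹ ∈ S.K)) hyK
    rwa [show r⁻¹ * (r * u * r⁻¹) * r = u by group] at this)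
  rcases hyn u (Or.inr (Or.inr (Or.inl rfl))) with h | h | h | h
  · exact absurd h (hnK 1 (one_mem _))
  · exact absurd h (hnK t p.t_mem)
  · exfalso
    obtain ⟨k, hk⟩ := P.isPGroup' y
    have hk' : r ^ 2 ^ k = 1 := by
      have := congrArg (fun a : (P : Subgroup W) => ((a : W) : G)) hk
      simpa using this
    rcases p.cent_small hyK (mul_inv_eq_iff_eq_mul.1 h) hrt hk' with e | e
    · exact hyV (Or.inl e)
    · exact hyV (Or.inr (Or.inl e))
  · rw [h, p.comm]

/-- When four divides the order of the centralizer every pair is outer. -/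
theorem im_outer (p : Pair S T t u) (h4 : 4 ∣ Nat.card S.K) : S.im u ∉ Spor.M12 := by
  intro hin
  obtain ⟨r, hr, hrt, hru⟩ := p.exists_swap h4
  have huN := p.u_mem_N
  obtain ⟨l, hl, hle⟩ := S.exists_L hin
  have hlN := S.L_le_N hl
  set k := u * l⁻¹
  have hk : k ∈ S.K := (S.im_eq_one (mul_mem huN (inv_mem hlN))).1
    (by rw [S.im_mul huN (inv_mem hlN), S.im_inv hlN, hle, mul_inv_cancel])
  have hu : u = k * l := by simp [k]
  have hlk : Commute l k := S.comm hl hk
  have hlt : Commute l t := S.comm hl p.t_mem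
  have hlr : Commute l r := S.comm hl hr
  have hl2 : l * l = 1 := S.L_inj (mul_mem hl hl) (one_mem _) (by
    rw [S.im_mul hlN hlN, hle, (p.isInv_im p.u_mem_x p.u_sq p.u_ne).2.1, S.im_one])
  have hk2 : k * k = 1 := by
    have := p.u_sq
    rwa [hu, Commute.mul_mul_mul_comm hlk, hl2, mul_one] at this
  have hku : k * u = u * k := by
    conv_lhs => rw [hu, ← mul_assoc, hk2, one_mul]
    conv_rhs => rw [hu, mul_assoc, hlk.eq, ← mul_assoc, hk2, one_mul]
  have hkt : k * t = t * k := by
    show Commute k t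
    exact Commute.mul_left (show Commute u t from p.comm.symm) hlt.inv_left
  have key : r * k * r⁻¹ = k * t := by
    apply mul_right_cancel (b := l)
    calc r * k * r⁻¹ * l = r * (k * l) * r⁻¹ := by
          rw [mul_assoc, (hlr.inv_right.symm).eq]; group
      _ = u * t := by rw [← hu, hru]
      _ = k * t * l := by rw [hu, mul_assoc, hlt.eq, ← mul_assoc]
  rcases p.cent_small hk hku hkt (n := 1) (by rw [pow_one, sq, hk2]) with e | e
  · rw [e] at key; simp at key; exact p.t_ne key.symm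
  · rw [e, hrt, mul_inv_cancel_right, p.t_sq] at key
    exact p.t_ne key

/-- The outer case is impossible. -/
theorem not_four (p : Pair S T t u) (h4 : 4 ∣ Nat.card S.K) : False := by
  have h4T : 4 ∣ Nat.card T.K := by
    obtain ⟨g, -, hL⟩ := p.apart
    rwa [Std.Apart.K_eq S hL, card_map_of_injective (MulAut.conj g).injective]
  have huN := p.u_mem_N
  have htN := p.symm.u_mem_N
  have hu1 : u⁻¹ = u := inv_eq_of_mul_eq_one_right p.u_sq
  have hout := p.im_outer h4
  have hout' := p.symm.im_outer h4T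
  have iu := p.isInv_im p.u_mem_x p.u_sq p.u_ne
  have it := p.symm.isInv_im p.symm.u_mem_x p.t_sq p.t_ne
  obtain ⟨j, σ, hj, hj2, hj1, hσ, hσj, hσu, hjc, -⟩ := outer_shift (S.im_mem u) hout iu.2.1
  obtain ⟨i, hi, rfl, hiu⟩ := S.exists_centM huN hj
  obtain ⟨s, hs, rfl⟩ := S.exists_L hσ
  obtain ⟨j', σ', hj', hj'2, hj'1, -, -, -, -, hjz⟩ := outer_shift (T.im_mem t) hout' it.2.1
  obtain ⟨i', hi', rfl, hi't⟩ := T.exists_centM htN hj'
  have hiN := S.L_le_N hi
  have hsN := S.L_le_N hs
  have hit : i * t = t * i := S.comm hi p.t_mem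
  have hi'u : i' * u = u * i' := T.comm hi' p.u_mem
  have hi2 : i * i = 1 := S.L_inj (mul_mem hi hi) (one_mem _) (by rw [S.im_mul hiN hiN, hj2, S.im_one])
  have hi1 : i ≠ 1 := fun e => hj1 (by rw [e, S.im_one])
  have hsi : s * i = i * s := S.comm_of_im hsN hi hσj
  have hst : s * t = t * s := S.comm hs p.t_mem
  have hsu : s * u * s⁻¹ = u * i := by
    set a := s * u * s⁻¹ * (u * i)⁻¹ with ha
    have haK : a ∈ S.K := (S.im_eq_one (mul_mem (mul_mem (mul_mem hsN huN) (inv_mem hsN))
      (inv_mem (mul_mem huN hiN)))).1 (by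
        rw [S.im_mul (mul_mem (mul_mem hsN huN) (inv_mem hsN)) (inv_mem (mul_mem huN hiN)),
          S.im_mul (mul_mem hsN huN) (inv_mem hsN), S.im_mul hsN huN, S.im_inv hsN, S.im_inv (mul_mem huN hiN),
          S.im_mul huN hiN, hσu, mul_inv_cancel])
    have haL : a ∈ S.L := by
      rw [ha, show s * u * s⁻¹ * (u * i)⁻¹ = s * (u * s⁻¹ * u⁻¹) * (u * i⁻¹ * u⁻¹) by group]
      exact mul_mem (mul_mem hs (S.conj_mem_L huN (inv_mem hs))) (S.conj_mem_L huN (inv_mem hi))
    exact mul_inv_eq_one.1 (S.eq_one_of_mem haL haK)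
  -- the central involution is central in the common centralizer
  have hcent : ∀ n, n * t = t * n → n * u = u * n → n * i = i * n := by
    intro n hnt hnu
    have hnN : n ∈ S.N := S.cent_invol_le p.t_mem p.t_sq p.t_ne (mem_centralizer_singleton_iff.2 hnt)
    have hcom := S.im_comm hnN huN hnu
    refine S.comm_of_im hnN hi ?_
    by_cases hm : S.im n ∈ Spor.M12
    · exact hjc _ (mem_centM.2 ⟨hm, hcom⟩)
    · have h := hjc _ (mem_centM.2 ⟨mul_mem_M12 (S.im_mem u) (S.im_mem n) hout hm,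
        Commute.mul_left (Commute.refl _) hcom⟩)
      have hju : S.im i * S.im u = S.im u * S.im i := (mem_centM.1 hj).2
      refine mul_left_cancel (a := S.im u) ?_
      rw [← mul_assoc, h, ← mul_assoc, hju, mul_assoc]
  have hiT : i ∈ T.N := T.cent_invol_le p.u_mem p.u_sq p.u_ne (mem_centralizer_singleton_iff.2 hiu)
  have hi'i : i' * i = i * i' := hcent i' hi't hi'u
  have hall : ∀ z, z ∈ T.N → z * t = t * z → (∀ n, n * t = t * n → n * u = u * n → n * z = z * n) →
      T.im z ∈ Spor.M12 → T.im z = 1 ∨ T.im z = T.im i' := by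
    intro z hz hzt hzc hin
    refine hjz _ (mem_centM.2 ⟨hin, T.im_comm hz htN hzt⟩) fun c hc => ?_
    obtain ⟨l, hl, rfl, hlt⟩ := T.exists_centM htN hc
    exact (T.im_comm (T.L_le_N hl) hz (hzc l hlt (T.comm hl p.u_mem))).symm
  obtain ⟨a, ha, hai, hia⟩ : ∃ a, (a = 1 ∨ a = i' ∨ a = t ∨ a = i' * t) ∧ T.im a = T.im i ∧ a ∈ T.N := by
    by_cases hm : T.im i ∈ Spor.M12
    · rcases hall i hiT hit hcent hm with h | h
      · exact ⟨1, Or.inl rfl, by rw [T.im_one, h], one_mem _⟩
      · exact ⟨i', Or.inr (Or.inl rfl), h.symm, T.L_le_N hi'⟩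
    · have hm' : T.im (i * t) ∈ Spor.M12 := by
        rw [T.im_mul hiT htN]
        exact mul_mem_M12 (T.im_mem i) (T.im_mem t) hm hout'
      have hh := hall (i * t) (mul_mem hiT htN) (by rw [mul_assoc, ← mul_assoc t, ← hit, mul_assoc])
        (fun n hnt hnu => Commute.mul_right (hcent n hnt hnu) hnt) hm'
      rw [T.im_mul hiT htN] at hh
      rcases hh with h | h
      · refine ⟨t, Or.inr (Or.inr (Or.inl rfl)), ?_, htN⟩
        rw [eq_inv_of_mul_eq_one_left h, inv_eq_of_mul_eq_one_right it.2.1]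
      · refine ⟨i' * t, Or.inr (Or.inr (Or.inr rfl)), ?_, mul_mem (T.L_le_N hi') htN⟩
        rw [T.im_mul (T.L_le_N hi') htN, ← h, mul_assoc, it.2.1, mul_one]
  have hai' : Commute a t ∧ Commute a u ∧ Commute a i := by
    rcases ha with rfl | rfl | rfl | rfl
    · exact ⟨Commute.one_left _, Commute.one_left _, Commute.one_left _⟩
    · exact ⟨hi't, hi'u, hi'i⟩
    · exact ⟨Commute.refl _, p.comm, hit.symm⟩
    · exact ⟨Commute.mul_left hi't (Commute.refl _), Commute.mul_left hi'u p.comm,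
        Commute.mul_left hi'i hit.symm⟩
  have ha2 : a * a = 1 := by
    have hi'2 : i' * i' = 1 := T.L_inj (mul_mem hi' hi') (one_mem _)
      (by rw [T.im_mul (T.L_le_N hi') (T.L_le_N hi'), hj'2, T.im_one])
    rcases ha with rfl | rfl | rfl | rfl
    · simp
    · exact hi'2
    · exact p.t_sq
    · rw [Commute.mul_mul_mul_comm (show Commute t i' from hi't.symm), hi'2, p.t_sq, one_mul]
  set k := a * i
  have hkK : k ∈ T.K := (T.im_eq_one (mul_mem hia hiT)).1 (by
    rw [T.im_mul hia hiT, hai, ← T.im_mul hiT hiT, hi2, T.im_one])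
  have hk2 : k * k = 1 := by rw [Commute.mul_mul_mul_comm hai'.2.2.symm, ha2, hi2, one_mul]
  have hk : k = 1 ∨ k = u := p.symm.cent_small hkK (Commute.mul_left hai'.1 hit) (Commute.mul_left hai'.2.1 hiu)
    (n := 1) (by rw [pow_one, sq, hk2])
  have hieq : i = a * k := by simp only [k, ← mul_assoc, ha2, one_mul]
  have hiM : S.im i ∈ Spor.M12 := S.im_L_mem hi
  have himt : S.im t = 1 := S.im_K p.t_mem
  have htS : t ∈ S.N := S.K_le_N p.t_mem
  have hα : ∃ β, (β = 1 ∨ β = t ∨ β = u ∨ β = t * u) ∧ i = i' * β := by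
    rcases ha with rfl | rfl | rfl | rfl <;> rcases hk with e | e <;> rw [e] at hieq
    · exact absurd (by rw [hieq, mul_one]) hi1
    · exact absurd (by rw [← one_mul u, ← hieq]; exact hiM) hout
    · exact ⟨1, Or.inl rfl, hieq⟩
    · exact ⟨u, Or.inr (Or.inr (Or.inl rfl)), hieq⟩
    · exact absurd (S.eq_one_of_mem hi (by rw [hieq, mul_one]; exact p.t_mem)) hi1
    · refine absurd ?_ hout
      rw [hieq, S.im_mul htS huN, himt, one_mul] at hiM
      exact hiM
    · exact ⟨t, Or.inr (Or.inl rfl), by rw [hieq, mul_one]⟩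
    · exact ⟨t * u, Or.inr (Or.inr (Or.inr rfl)), by rw [hieq, mul_assoc]⟩
  obtain ⟨β, hβ, hiβ⟩ := hα
  obtain ⟨w, hw, hwu, hwt⟩ := p.symm.exists_swap h4T
  have hwi' : w * i' * w⁻¹ = i' := by rw [← T.comm hi' hw, mul_inv_cancel_right]
  have hwu' : w * u * w⁻¹ = u := by rw [hwu, mul_inv_cancel_right]
  have hwβ : w * β * w⁻¹ = β ∨ w * β * w⁻¹ = β * u := by
    rcases hβ with rfl | rfl | rfl | rfl
    · left; simp
    · exact Or.inr hwt
    · exact Or.inl hwu'
    · right
      calc w * (t * u) * w⁻¹ = w * t * w⁻¹ * (w * u * w⁻¹) := by group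
        _ = t * u * u := by rw [hwt, hwu']
  have hwi : w * i * w⁻¹ = i ∨ w * i * w⁻¹ = i * u := by
    have e : w * i * w⁻¹ = i' * (w * β * w⁻¹) := by
      conv_rhs => rw [← hwi']
      rw [hiβ]; group
    rcases hwβ with h | h <;> rw [h] at e
    · exact Or.inl (e.trans hiβ.symm)
    · exact Or.inr (e.trans (by rw [hiβ, mul_assoc]))
  -- an involution of a third centralizer with inner image
  obtain ⟨h, z, hz, hz2, hz1, hzt, hzin, hznK⟩ : ∃ (T' : Std G) (z : G), z ∈ T'.K ∧ z * z = 1 ∧ z ≠ 1 ∧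
      t * z = z * t ∧ S.im z ∈ Spor.M12 ∧ (z ∉ S.K ∧ ∃ g, T'.L = S.L.map (MulAut.conj g).toMonoidHom) := by
    obtain ⟨g, -, hTL⟩ := p.apart
    rcases hwi with hw' | hw'
    · have hst' : ∀ c, c * t = t * c → c * t * c⁻¹ = t := fun c hc => by rw [hc, mul_inv_cancel_right]
      have htail : w * (s * (w * t * w⁻¹) * s⁻¹) * w⁻¹ = t * i := by
        rw [hwt, show s * (t * u) * s⁻¹ = s * t * s⁻¹ * (s * u * s⁻¹) by group, hst' s hst, hsu,
          show w * (t * (u * i)) * w⁻¹ = w * t * w⁻¹ * (w * u * w⁻¹ * (w * i * w⁻¹)) by group, hwt, hwu', hw',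
          mul_assoc, ← mul_assoc u u, p.u_sq, one_mul]
      refine ⟨S.conj (w * s * w), t * i, ?_, ?_, fun e => hi1 (S.eq_one_of_mem hi ?_), ?_, ?_, fun e => hi1
        (S.eq_one_of_mem hi ?_), _, rfl⟩
      · rw [← htail, show w * (s * (w * t * w⁻¹) * s⁻¹) * w⁻¹ = w * s * w * t * (w * s * w)⁻¹ by group]
        exact S.mem_conj_K p.t_mem
      · rw [Commute.mul_mul_mul_comm hit, p.t_sq, hi2, one_mul]
      · rw [eq_inv_of_mul_eq_one_right e]; exact inv_mem p.t_mem
      · rw [mul_assoc t i, hit]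
      · rw [S.im_mul htS hiN, himt, one_mul]; exact hiM
      · have := mul_mem p.t_mem e
        rwa [← mul_assoc, p.t_sq, one_mul] at this
    · have hiu' : i = w⁻¹ * (s * u * s⁻¹) * w := by
        rw [hsu, ← hiu, ← hw']
        group
      refine ⟨T.conj (w⁻¹ * s), i, ?_, hi2, hi1, hit.symm, hiM, fun e => hi1 (S.eq_one_of_mem hi e),
        w⁻¹ * s * g, ?_⟩
      · have h := T.mem_conj_K (g := w⁻¹ * s) p.u_mem
        rwa [show w⁻¹ * s * u * (w⁻¹ * s)⁻¹ = w⁻¹ * (s * u * s⁻¹) * w by group, ← hiu'] at h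
      · rw [Std.conj_L, hTL, map_map]
        congr 1
        ext y
        simp [mul_assoc]
  obtain ⟨hznK, g, hg⟩ := hznK
  have happ : S.Apart h := ⟨g, fun hgN => hznK ?_, hg⟩
  · exact (Pair.im_outer (⟨happ, p.t_mem, p.t_sq, p.t_ne, hz, hz2, hz1, hzt⟩ : Pair S h t z) h4) hzin
  · rw [Std.Apart.K_eq S hg] at hz
    obtain ⟨y, hy, he⟩ := hz
    exact he ▸ S.conj_mem_K hgN hy

end Pair

omit [Finite G] in
theorem not_solvable {L : Subgroup G} (e : L ≃* Spor.M12) : ¬ Group.IsSolvable L := fun hsol => by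
  haveI := isSimple_M12
  haveI : IsSimpleGroup L := e.isSimpleGroup
  have hc : ∀ a b : L, a * b = b * a := (IsSimpleGroup.comm_iff_isSolvable).2 hsol
  have htop : Subgroup.center L = ⊤ := eq_top_iff.2 fun a _ => Subgroup.mem_center_iff.2 fun b => hc b a
  have : Subgroup.center Spor.M12 = ⊤ := eq_top_iff.2 fun m _ => Subgroup.mem_center_iff.2 fun b => by
    apply e.symm.injective
    rw [map_mul, map_mul]
    exact hc _ _
  rw [center_M12_eq_bot] at this
  exact bot_ne_top this

/-- The centralizer of a standard subgroup isomorphic to M12 in a simple group has order not divisible by four. -/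
theorem not_four_dvd [IsSimpleGroup G] (hG : ¬ IsMulCommutative G) (L : Subgroup G)
    (hL : Cfsg.IsStandardSubgroup L) (e : L ≃* Spor.M12) :
    ¬ 4 ∣ Nat.card (Subgroup.centralizer (L : Set G)) := fun h4 => by
  obtain ⟨g, t, u, hg, ht, ht2, hu, hu2, htu, -⟩ := exists_pair hG hL (not_solvable e)
  let S : Std G := ⟨L, e, hL⟩
  have hinv : ∀ {x : G}, orderOf x = 2 → x * x = 1 ∧ x ≠ 1 := fun {x} hx =>
    ⟨by rw [← sq, ← hx, pow_orderOf_eq_one], fun e => by rw [e, orderOf_one] at hx; norm_num at hx⟩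
  have hT : (S.conj g).K = S.K.map (MulAut.conj g).toMonoidHom := Std.Apart.K_eq S (S.conj_L g)
  exact (⟨⟨g, hg, S.conj_L g⟩, ht, (hinv ht2).1, (hinv ht2).2, hT ▸ hu, (hinv hu2).1, (hinv hu2).2, htu⟩ :
    Pair S (S.conj g) t u).not_four h4

end Cfsg.Lib.StdMTwelve
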